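import Groth.Agent.RInvLib.Herm
import Mathlib.LinearAlgebra.Matrix.Notation

/-! Explicit hyperbolic basis of a skew hermitian `2 × 2` form after adjoining a square root. -/

namespace Groth.Agent.RInvLib

open Matrix

universe u v

/-- The explicit congruence to the standard alternating form. -/
theorem exists_congr_std {R : Type v} [CommRing R] (L : R →+* R) {a b c d X w x' half β : R}
    (ha : L a = -a) (hd : L d = -d) (hc : c = -L b) (hβ : b * β = 1)
    (hX : X * X = 1 + a * (L β * d * β)) (hLX : L X = X) (hw : w * (1 + X) = 1) (hLw : L w = w)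
    (hx : x' * X = 1) (hLx : L x' = x') (hhalf : half * 2 = 1) (hLhalf : L half = half)
    (hLL : L (L β) = β) :
    ∃ v : Matrix (Fin 2) (Fin 2) R, IsUnit v ∧ (v.map L).transpose * !![a, b; c, d] * v = !![0, 1; -1, 0] := by
  obtain ⟨d', hd'⟩ : ∃ d', d' = L β * d * β := ⟨_, rfl⟩
  obtain ⟨z, hz⟩ : ∃ z, z = -a * w := ⟨_, rfl⟩
  obtain ⟨γ, hγ⟩ : ∃ γ, γ = d' * x' * x' * half := ⟨_, rfl⟩
  rw [← hd'] at hX
  have hLd' : L d' = -d' := by rw [hd', map_mul, map_mul, hLL, hd]; ring
  have hLz : L z = -z := by rw [hz, map_mul, map_neg, ha, hLw]; ring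
  have hLγ : L γ = -γ := by rw [hγ, map_mul, map_mul, map_mul, hLd', hLx, hLhalf]; ring
  have hLβb : L b * L β = 1 := by rw [← map_mul, hβ, map_one]
  have e1 : a + 2 * z - z * z * d' = 0 := by
    rw [hz]; linear_combination (a * w * w) * hX - a * (1 + w * (X - 1)) * hw
  have e2 : 1 - z * d' = X := by
    rw [hz]; linear_combination (-w) * hX + (X - 1) * hw
  have e3 : d' * x' * x' - 2 * γ = 0 := by
    rw [hγ]; linear_combination (-(d' * x' * x')) * hhalf
  refine ⟨!![1, γ; β * z, β * (x' + γ * z)], ?_, ?_⟩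
  · rw [Matrix.isUnit_iff_isUnit_det, det_fin_two_of]
    refine IsUnit.of_mul_eq_one (b * X) ?_
    linear_combination (x' * X) * hβ + hx
  · have hm : (!![1, γ; β * z, β * (x' + γ * z)]).map L = !![1, -γ; -(L β * z), L β * (x' + γ * z)] := by
      ext i j
      fin_cases i <;> fin_cases j <;> simp [hLz, hLγ, hLx]
    rw [hm, hc]
    ext i j
    fin_cases i <;> fin_cases j <;> simp [Matrix.mul_apply, Fin.sum_univ_two]
    · linear_combination e1 + (z * z) * hd' + z * hβ + z * hLβb
    · linear_combination γ * e1 + (z * (x' + γ * z)) * hd' + (x' + γ * z) * hβ + (γ * z) * hLβb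
        + x' * e2 + hx
    · linear_combination (-γ) * e1 + (-(z * (x' + γ * z))) * hd' + (-(γ * z)) * hβ
        + (-(x' + γ * z)) * hLβb + (-x') * e2 + (-1) * hx
    · linear_combination (-(γ * γ)) * e1 + (-((x' + γ * z) * (x' + γ * z))) * hd'
        + (-(γ * (x' + γ * z))) * hβ + (-(γ * (x' + γ * z))) * hLβb + e3 + (-2 * γ * x') * e2 + (-2 * γ) * hx

end Groth.Agent.RInvLib
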