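import Groth.Agent.RInvLib.Herm
import Mathlib.Logic.Equiv.Fin.Basic
import Mathlib.Algebra.Group.Pi.Units

/-! Symplectic normal form of skew hermitian matrices. -/

namespace Groth.Agent.RInvLib

open Matrix

universe u v w

variable {B : Type u} {A : Type v} [CommRing B] [CommRing A] [Algebra B A] {lam : A ≃+* A} [IsLocalRing B]
  (hlam : Function.Involutive lam) (hB : RInv.IsFixedRing B A lam)

/-- The standard alternating `2 × 2` matrix. -/
def stdJ : Matrix (Fin 2) (Fin 2) A := Matrix.of ![![(0 : A), 1], ![-1, 0]]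

include hlam hB in
theorem exists_symplectic (hid : ∀ a : A, lam a - a ∈ Ring.jacobson A) (h2 : IsUnit (2 : A)) (N : ℕ) :
    ∀ (ι : Type w) [Fintype ι] [DecidableEq ι] (h : Matrix ι ι A), Fintype.card ι ≤ N → IsUnit h →
      IsHerm lam (-1) h → ∃ (k : ℕ) (e : ι ≃ Fin k × Fin 2) (v : Matrix ι ι A), IsUnit v ∧
        ∀ i j, ((e i).1 ≠ (e j).1 → cg lam h v i j = 0) ∧
          ((e i).1 = (e j).1 → cg lam h v i j - stdJ (e i).2 (e j).2 ∈ Ring.jacobson A) := by
  haveI := isLocalRing_of_forall hlam hB hid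
  induction N with
  | zero =>
    intro ι _ _ h hN _ _
    haveI : IsEmpty ι := Fintype.card_eq_zero_iff.mp (Nat.le_zero.mp hN)
    exact ⟨0, Equiv.equivOfIsEmpty _ _, 1, isUnit_one, isEmptyElim⟩
  | succ N ih =>
    intro ι _ _ h hN hh herm
    classical
    rcases isEmpty_or_nonempty ι with hem | ⟨⟨i₀⟩⟩
    · exact ⟨0, Equiv.equivOfIsEmpty _ _, 1, isUnit_one, isEmptyElim⟩
    have hdiag : ∀ (k : Matrix ι ι A), IsHerm lam (-1) k → ∀ i, k i i ∈ IsLocalRing.maximalIdeal A := fun k hk i => by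
      obtain ⟨c, hc⟩ := h2.exists_left_inv
      have h1 := mem_of_mem_jacobson (hid (k i i)) (IsLocalRing.maximalIdeal A)
      rw [show k i i = -c * (lam (k i i) - k i i) by linear_combination (-k i i) * hc - c * hk.apply i i]
      exact Ideal.mul_mem_left _ _ h1
    obtain ⟨j₀, hg⟩ := exists_notMem_row hh i₀ (IsLocalRing.maximalIdeal A)
    have hij : i₀ ≠ j₀ := fun e => hg (e ▸ hdiag h herm i₀)
    rw [IsLocalRing.notMem_maximalIdeal] at hg
    obtain ⟨g, hgg⟩ := hg
    let d : ι → A := Function.update (fun _ => 1) j₀ (↑g⁻¹ : A)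
    have hD : IsUnit (diagonal d) := Matrix.isUnit_diagonal.mpr (_root_.Pi.isUnit_iff.mpr fun i => by
      by_cases hi : i = j₀
      · subst hi; simp [d]
      · simp [d, hi])
    obtain ⟨K, hK⟩ : ∃ K, K = cg lam h (diagonal d) := ⟨_, rfl⟩
    have hKa : ∀ i j, K i j = lam (d i) * h i j * d j := fun i j => by
      rw [hK, cg, diagonal_map (map_zero lam), diagonal_transpose, Matrix.mul_diagonal, Matrix.diagonal_mul]
    have hKu : IsUnit K := hK ▸ isUnit_cg lam hh hD
    have hKh : IsHerm lam (-1) K := hK ▸ herm.cg hlam _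
    have hK01 : K i₀ j₀ = 1 := by
      simp [hKa, d, hij, ← hgg]
    have hK10 : K j₀ i₀ = -1 := by rw [← hKh.apply j₀ i₀, hK01, map_one, mul_one]
    let f : Fin 2 → ι := ![i₀, j₀]
    have hf : Function.Injective f := by
      intro a b hab; fin_cases a <;> fin_cases b <;> first | rfl | exact absurd hab hij | exact absurd hab.symm hij
    let ef : Fin 2 ⊕ {x // x ∉ Set.range f} ≃ ι :=
      ((Equiv.ofInjective f hf).sumCongr (Equiv.refl _)).trans (Equiv.sumCompl (· ∈ Set.range f))
    have hB11 : (K.submatrix ef ef).toBlocks₁₁ = !![K i₀ i₀, 1; -1, K j₀ j₀] := by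
      ext a b
      fin_cases a <;> fin_cases b
      · rfl
      · exact hK01
      · exact hK10
      · rfl
    have hB1 : IsUnit (K.submatrix ef ef).toBlocks₁₁ := by
      rw [hB11, Matrix.isUnit_iff_isUnit_det, det_fin_two_of]
      refine IsLocalRing.notMem_maximalIdeal.mp fun hm => ?_
      have h1 := Ideal.sub_mem _ hm (Ideal.mul_mem_left _ (K i₀ i₀) (hdiag K hKh j₀))
      exact IsLocalRing.notMem_maximalIdeal.mpr isUnit_one (by convert h1 using 1; ring)
    obtain ⟨v₁, hv₁, hv₁b, hD'u, hD'h⟩ := exists_clear hlam (isUnit_submatrix hKu ef)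
      (isHerm_of_apply fun a b => hKh.apply (ef a) (ef b)) hB1
    have hcard : Fintype.card {x // x ∉ Set.range f} ≤ N := by
      have := Fintype.card_subtype_lt (p := fun x => x ∉ Set.range f) (x := i₀) (fun h => h ⟨0, rfl⟩)
      omega
    obtain ⟨k, e', v', hv', hspec⟩ := ih _ _ hcard hD'u hD'h
    let E : Fin 2 ⊕ Fin k × Fin 2 ≃ Fin (k + 1) × Fin 2 :=
      { toFun := Sum.elim (fun b => (0, b)) fun p => (p.1.succ, p.2)
        invFun := fun p => Fin.cases (Sum.inl p.2) (fun l => Sum.inr (l, p.2)) p.1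
        left_inv := fun x => by rcases x with b | p <;> simp
        right_inv := fun p => by
          obtain ⟨a, b⟩ := p
          refine Fin.cases ?_ (fun l => ?_) a <;> simp }
    refine ⟨k + 1, ef.symm.trans (((Equiv.refl _).sumCongr e').trans E),
      diagonal d * (v₁ * fromBlocks 1 0 0 v').submatrix ef.symm ef.symm,
      hD.mul (isUnit_submatrix (hv₁.mul (isUnit_blocks isUnit_one hv')) ef.symm), fun i j => ?_⟩
    rw [cg_mul, ← hK, cg_submatrix_symm, cg_mul, hv₁b, cg_blocks, cg_one, submatrix_apply]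
    obtain ⟨a, rfl⟩ := ef.surjective i
    obtain ⟨b, rfl⟩ := ef.surjective j
    simp only [Equiv.trans_apply, Equiv.symm_apply_apply]
    rcases a with a | a <;> rcases b with b | b
    · refine ⟨fun hne => absurd rfl hne, fun _ => ?_⟩
      rw [fromBlocks_apply₁₁, hB11]
      refine mem_jacobson_of_forall fun M hM => ?_
      rw [IsLocalRing.eq_maximalIdeal hM]
      fin_cases a <;> fin_cases b <;> simp [E, stdJ] <;> exact hdiag K hKh _
    · exact ⟨fun _ => by simp [fromBlocks_apply₁₂], fun he => absurd he (Fin.succ_ne_zero _).symm⟩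
    · exact ⟨fun _ => by simp [fromBlocks_apply₂₁], fun he => absurd he (Fin.succ_ne_zero _)⟩
    · rw [fromBlocks_apply₂₂]
      exact ⟨fun hne => (hspec a b).1 fun he => hne (congrArg Fin.succ he),
        fun he => (hspec a b).2 (Fin.succ_injective _ he)⟩

include hlam hB in
theorem exists_symplectic_fin (n : ℕ) (hid : ∀ a : A, lam a - a ∈ Ring.jacobson A) (h2 : IsUnit (2 : A))
    (h : Matrix (Fin n) (Fin n) A) (hh : IsUnit h) (herm : -(h.map lam).transpose = h) :
    Even n ∧ ∃ v : Matrix (Fin n) (Fin n) A, IsUnit v ∧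
      ∀ i j : Fin n,
        (i.val / 2 ≠ j.val / 2 → ((v.map lam).transpose * h * v) i j = 0) ∧
        (i.val / 2 = j.val / 2 → (Even i.val ↔ Even j.val) →
          ((v.map lam).transpose * h * v) i j ∈ Ring.jacobson A) ∧
        (i.val / 2 = j.val / 2 → Even i.val → ¬ Even j.val →
          ((v.map lam).transpose * h * v) i j - 1 ∈ Ring.jacobson A) ∧
        (i.val / 2 = j.val / 2 → ¬ Even i.val → Even j.val →
          ((v.map lam).transpose * h * v) i j + 1 ∈ Ring.jacobson A) := by
  obtain ⟨k, e, v, hv, hspec⟩ := exists_symplectic hlam hB hid h2 n (Fin n) h (by simp) hh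
    (by rw [IsHerm, neg_one_smul]; exact herm)
  have hn : n = k * 2 := by simpa using Fintype.card_congr e
  subst hn
  refine ⟨⟨k, mul_two k⟩, ?_⟩
  let σ : Fin (k * 2) ≃ Fin (k * 2) := e.trans finProdFinEquiv
  refine ⟨v.submatrix id σ.symm, ?_, fun i j => ?_⟩
  · rw [Matrix.isUnit_iff_isUnit_det, Matrix.det_permute']
    exact (((Equiv.Perm.sign σ.symm).isUnit).map (Int.castRingHom A)).mul ((Matrix.isUnit_iff_isUnit_det v).mp hv)
  have hcg : ((v.submatrix id σ.symm).map lam).transpose * h * v.submatrix id σ.symm =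
      (cg lam h v).submatrix σ.symm σ.symm := by
    ext a b; simp [cg, Matrix.mul_apply]
  rw [hcg, submatrix_apply]
  obtain ⟨h0, h1⟩ := hspec (σ.symm i) (σ.symm j)
  have he : ∀ x : Fin (k * 2), e (σ.symm x) = (x.divNat, x.modNat) := fun x => by
    show e (e.symm (finProdFinEquiv.symm x)) = _
    rw [Equiv.apply_symm_apply]; rfl
  rw [he, he] at h0 h1
  have hp : ∀ x : Fin (k * 2), Even x.1 → x.modNat = 0 := fun x hx => Fin.ext (Nat.even_iff.mp hx)
  have hp' : ∀ x : Fin (k * 2), ¬ Even x.1 → x.modNat = 1 := fun x hx => Fin.ext (Nat.not_even_iff.mp hx)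
  have hdiv : i.1 / 2 = j.1 / 2 → i.divNat = j.divNat := fun h => Fin.ext h
  refine ⟨fun hne => h0 fun he => hne (congrArg Fin.val he), fun hd hiff => ?_, fun hd hi hj => ?_, fun hd hi hj => ?_⟩
  · have := h1 (hdiv hd)
    by_cases hi : Even i.1
    · simpa [hp i hi, hp j (hiff.mp hi), stdJ] using this
    · simpa [hp' i hi, hp' j (mt hiff.mpr hi), stdJ] using this
  · simpa [hp i hi, hp' j hj, stdJ] using h1 (hdiv hd)
  · simpa [hp' i hi, hp j hj, stdJ] using h1 (hdiv hd)

end Groth.Agent.RInvLib
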