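import Groth.Agent.RInvLib.Local
import Groth.Agent.Hensel.IntegralStrict
import Mathlib.RingTheory.Ideal.Quotient.Operations
import Mathlib.FieldTheory.IsSepClosed

/-! Rings with an involution over a strictly henselian fixed ring. -/

namespace Groth.Agent.RInvLib

open Polynomial IsLocalRing

universe u v

theorem henselianLocalRing_of_equiv {A : Type u} {B : Type v} [CommRing A] [CommRing B] [HenselianLocalRing A]
    (e : A ≃+* B) : HenselianLocalRing B := by
  haveI : Nontrivial B := e.injective.nontrivial
  haveI : IsLocalRing B := IsLocalRing.of_surjective' (e : A →+* B) e.surjective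
  refine { is_henselian := fun f hf b₀ h1 h2 => ?_ }
  have hev : ∀ (g : B[X]) (x : A), (g.map (e.symm : B →+* A)).eval x = e.symm (g.eval (e x)) := fun g x => by
    conv_lhs => rw [← e.symm_apply_apply x]
    exact eval_map_apply (e.symm : B →+* A) (e x)
  obtain ⟨a, ha, ham⟩ := HenselianLocalRing.is_henselian (f.map (e.symm : B →+* A)) (hf.map _) (e.symm b₀)
    (by rw [hev, e.apply_symm_apply, mem_maximalIdeal, mem_nonunits_iff]
        exact fun hu => h1 (by simpa using hu.map e))
    (by rw [derivative_map, hev, e.apply_symm_apply]; exact h2.map e.symm)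
  refine ⟨e a, ?_, ?_⟩
  · rw [IsRoot, hev] at ha
    exact e.symm.injective (ha.trans (map_zero _).symm)
  · rw [mem_maximalIdeal, mem_nonunits_iff] at ham ⊢
    exact fun hu => ham (by simpa [map_sub] using hu.map e.symm)

theorem strictlyHenselian_of_integral (S : Type u) (T : Type v) [CommRing S] [CommRing T] [Algebra S T]
    [HenselianLocalRing S] [IsSepClosed (ResidueField S)] [IsLocalRing T] (hint : (algebraMap S T).IsIntegral) :
    ∃ _ : HenselianLocalRing T, IsSepClosed (ResidueField T) := by
  haveI : HenselianLocalRing (ULift.{v} S) := henselianLocalRing_of_equiv ULift.ringEquiv.symm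
  haveI : IsLocalRing (ULift.{u} T) := IsLocalRing.of_surjective'
    (ULift.ringEquiv.symm : T ≃+* ULift.{u} T).toRingHom (ULift.ringEquiv.symm : T ≃+* ULift.{u} T).surjective
  letI : Algebra (ULift.{v} S) (ULift.{u} T) :=
    ((ULift.ringEquiv.symm : T ≃+* ULift.{u} T).toRingHom.comp
      ((algebraMap S T).comp (ULift.ringEquiv : ULift.{v} S ≃+* S).toRingHom)).toAlgebra
  haveI : Algebra.IsIntegral (ULift.{v} S) (ULift.{u} T) := ⟨fun x =>
    ((RingHom.isIntegral_of_surjective _ (ULift.ringEquiv : ULift.{v} S ≃+* S).surjective).trans _ _ hint).trans _ _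
      (RingHom.isIntegral_of_surjective _ (ULift.ringEquiv.symm : T ≃+* ULift.{u} T).surjective) x⟩
  haveI : HenselianLocalRing (ULift.{u} T) :=
    Hensel.henselianLocalRing_of_isIntegral_local (ULift.{v} S) (ULift.{u} T)
  haveI hT : HenselianLocalRing T := henselianLocalRing_of_equiv ULift.ringEquiv
  haveI : Algebra.IsIntegral S T := ⟨hint⟩
  haveI : IsLocalHom (algebraMap S T) := ⟨fun s hs => by
    obtain ⟨M, hM⟩ := Ideal.exists_maximal T
    haveI := Ideal.isMaximal_comap_of_isIntegral_of_isMaximal (R := S) M
    by_contra hns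
    exact hM.ne_top (Ideal.eq_top_of_isUnit_mem M ((eq_maximalIdeal this).ge hns) hs)⟩
  letI := (ResidueField.map (algebraMap S T)).toAlgebra
  haveI : IsScalarTower S (ResidueField S) (ResidueField T) := .of_algebraMap_eq fun a =>
    (ResidueField.map_residue (algebraMap S T) a).symm
  haveI : Algebra.IsIntegral S (ResidueField T) := ⟨fun x => by
    obtain ⟨b, rfl⟩ := residue_surjective x
    exact (Algebra.IsIntegral.isIntegral b).map (IsScalarTower.toAlgHom S T (ResidueField T))⟩
  haveI : Algebra.IsIntegral (ResidueField S) (ResidueField T) := Algebra.IsIntegral.tower_top (R := S)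
  exact ⟨hT, Algebra.IsAlgebraic.isSepClosed (F := ResidueField S)⟩

theorem exists_split (S : Type u) [CommRing S] [HenselianLocalRing S] [IsSepClosed (ResidueField S)] (t N : S)
    (hD : IsUnit (t * t - 4 * N)) : ∃ a, a * a - t * a + N = 0 := by
  let f : S[X] := X ^ 2 + (C (-t) * X + C N)
  have hfm : f.Monic := monic_X_pow_add (degree_linear_le.trans_lt (by norm_num))
  let fb := f.map (residue S)
  have hdeg : fb.degree = 2 := by
    simp only [fb, f, Polynomial.map_add, Polynomial.map_pow, map_X, Polynomial.map_mul, map_C]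
    compute_degree!
  have hd : derivative f = C 2 * X + C (-t) := by
    simp only [f, derivative_add, derivative_pow, derivative_X, derivative_mul, derivative_C, mul_one, zero_mul,
      zero_add, add_zero]
    norm_num
  have hkey : C (-4 : S) * f + derivative f * derivative f = C (t * t - 4 * N) := by
    rw [hd]
    simp only [f, map_neg, map_sub, map_mul, map_ofNat]
    ring
  obtain ⟨i, hi⟩ := hD.exists_left_inv
  have hsep : fb.Separable := by
    refine Polynomial.Separable.map ?_
    rw [separable_def']
    refine ⟨C (i * -4), C i * derivative f, ?_⟩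
    rw [map_mul, mul_assoc, mul_assoc, ← mul_add, hkey, ← map_mul, hi, map_one]
  obtain ⟨x, hx⟩ := IsSepClosed.exists_root fb (by rw [hdeg]; decide) hsep
  obtain ⟨a₀, rfl⟩ := residue_surjective x
  rw [IsRoot, eval_map_apply, residue_eq_zero_iff] at hx
  have hu : IsUnit ((derivative f).eval a₀) := by
    have h1 := congrArg (eval a₀) hkey
    rw [eval_add, eval_mul, eval_mul, eval_C, eval_C] at h1
    refine isUnit_of_mul_isUnit_left (y := (derivative f).eval a₀) (notMem_maximalIdeal.mp fun hmem => ?_)
    exact notMem_maximalIdeal.mpr hD (h1 ▸ Ideal.add_mem _ (Ideal.mul_mem_left _ _ hx) hmem)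
  obtain ⟨a, ha, -⟩ := HenselianLocalRing.is_henselian f hfm a₀ hx hu
  refine ⟨a, ?_⟩
  simp only [IsRoot, f, eval_add, eval_mul, eval_C, eval_X, eval_pow] at ha
  linear_combination ha

variable {S : Type u} {R : Type v} [CommRing S] [CommRing R] [Algebra S R] {lam : R ≃+* R}

theorem exists_product_strictlyHenselian (hlam : Function.Involutive lam) (hS : RInv.IsFixedRing S R lam)
    [HenselianLocalRing S] [IsSepClosed (ResidueField S)] :
    ∃ (ι : Type) (_ : Fintype ι) (T : ι → Type v) (_ : ∀ i, CommRing (T i))
      (_ : ∀ i, HenselianLocalRing (T i)),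
      (∀ i, IsSepClosed (IsLocalRing.ResidueField (T i))) ∧ Nonempty (R ≃+* (∀ i, T i)) := by
  by_cases hall : ∀ r, lam r - r ∈ Ring.jacobson R
  · haveI := isLocalRing_of_forall hlam hS hall
    obtain ⟨hT, hsep⟩ := strictlyHenselian_of_integral S R (ringHom_isIntegral hlam hS)
    exact ⟨Unit, inferInstance, fun _ => R, fun _ => inferInstance, fun _ => hT, fun _ => hsep,
      ⟨(RingEquiv.piUnique fun _ : Unit => R).symm⟩⟩
  push Not at hall
  obtain ⟨r, hr⟩ := hall
  have hu := exists_isUnit_sub_of_notMem_jacobson hlam hS hr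
  obtain ⟨w, hw⟩ := hu.exists_left_inv
  haveI : Nontrivial R := ⟨⟨1, 0, fun h => one_ne_zero (hS.1 (by rw [map_one, map_zero, h]))⟩⟩
  obtain ⟨t, ht⟩ := exists_trace hlam hS r
  obtain ⟨N, hN⟩ := exists_norm hlam hS r
  have hDR : algebraMap S R (t * t - 4 * N) = (r - lam r) * (r - lam r) := by
    rw [map_sub, map_mul, map_mul, map_ofNat, ht, hN]; ring
  have hD : IsUnit (t * t - 4 * N) := by
    obtain ⟨d, hd⟩ := (hDR ▸ hu.mul hu : IsUnit (algebraMap S R (t * t - 4 * N))).exists_right_inv
    have hfix : lam d = d := by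
      refine (hDR ▸ hu.mul hu : IsUnit (algebraMap S R (t * t - 4 * N))).mul_left_cancel ?_
      rw [hd, ← lam_algebraMap hS (t * t - 4 * N), ← map_mul, hd, map_one]
    obtain ⟨d', rfl⟩ := (hS.2 d).mp hfix
    exact IsUnit.of_mul_eq_one d' (hS.1 (by rw [map_mul, hd, map_one]))
  obtain ⟨a, ha⟩ := exists_split S t N hD
  have hab : IsUnit (a + a - t) := isUnit_of_mul_isUnit_left (y := a + a - t) (by
    rw [show (a + a - t) * (a + a - t) = t * t - 4 * N by linear_combination 4 * ha]; exact hD)
  have hprod : (r - algebraMap S R a) * (r - algebraMap S R (t - a)) = 0 := by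
    have h1 := congrArg (algebraMap S R) ha
    rw [map_add, map_sub, map_mul, map_mul, map_zero, hN, ht] at h1
    rw [map_sub, ht]
    linear_combination (-1 : R) * h1
  have hcop : IsCoprime (Ideal.span {r - algebraMap S R a}) (Ideal.span {r - algebraMap S R (t - a)}) := by
    rw [Ideal.isCoprime_span_singleton_iff]
    obtain ⟨i, hi⟩ := hab.exists_left_inv
    refine ⟨-algebraMap S R i, algebraMap S R i, ?_⟩
    have h2 := congrArg (algebraMap S R) hi
    rw [map_mul, map_sub, map_add, map_one] at h2
    rw [map_sub]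
    linear_combination h2
  have hinf : Ideal.span {r - algebraMap S R a} ⊓ Ideal.span {r - algebraMap S R (t - a)} = ⊥ := by
    rw [← Ideal.mul_eq_inf_of_coprime (Ideal.isCoprime_iff_sup_eq.mp hcop), Ideal.span_singleton_mul_span_singleton,
      hprod, Ideal.span_singleton_eq_bot]
  have hne : ∀ c c' : S, (r - algebraMap S R c) * (r - algebraMap S R c') = 0 →
      Ideal.span {r - algebraMap S R c} ≠ ⊤ := fun c c' h htop => by
    rw [Ideal.span_singleton_eq_top] at htop
    have hrc : r = algebraMap S R c' := sub_eq_zero.mp (htop.mul_right_eq_zero.mp h)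
    rw [hrc, lam_algebraMap hS, sub_self] at hu
    exact not_isUnit_zero hu
  have hSH : ∀ c : S, Ideal.span {r - algebraMap S R c} ≠ ⊤ →
      ∃ _ : HenselianLocalRing (R ⧸ Ideal.span {r - algebraMap S R c}),
        IsSepClosed (ResidueField (R ⧸ Ideal.span {r - algebraMap S R c})) := fun c hc => by
    haveI : Nontrivial (R ⧸ Ideal.span {r - algebraMap S R c}) := Ideal.Quotient.nontrivial_iff.mpr hc
    have hsurj : Function.Surjective (algebraMap S (R ⧸ Ideal.span {r - algebraMap S R c})) := fun y => by
      obtain ⟨x, rfl⟩ := Ideal.Quotient.mk_surjective y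
      obtain ⟨b, hb⟩ := (hS.2 ((x - lam x) * w)).mp (by
        have hlw : lam w * (lam r - r) = 1 := by
          have h1 := congrArg lam hw
          rwa [map_mul, map_sub, hlam, map_one] at h1
        rw [map_mul, map_sub, hlam]
        linear_combination (x - lam x) * lam w * hw + (x - lam x) * w * hlw)
      obtain ⟨a', ha'⟩ := (hS.2 (x - algebraMap S R b * r)).mp (by
        rw [map_sub, map_mul, lam_algebraMap hS, hb]
        linear_combination (x - lam x) * hw)
      refine ⟨a' + b * c, ?_⟩
      rw [IsScalarTower.algebraMap_apply S R (R ⧸ Ideal.span {r - algebraMap S R c}), Ideal.Quotient.algebraMap_eq,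
        Ideal.Quotient.eq, map_add, map_mul, ha']
      exact Ideal.mem_span_singleton'.mpr ⟨-algebraMap S R b, by ring⟩
    haveI : IsLocalRing (R ⧸ Ideal.span {r - algebraMap S R c}) := IsLocalRing.of_surjective' _ hsurj
    exact strictlyHenselian_of_integral S _ (RingHom.isIntegral_of_surjective _ hsurj)
  let I : Fin 2 → Ideal R := ![Ideal.span {r - algebraMap S R a}, Ideal.span {r - algebraMap S R (t - a)}]
  have hI : ∀ i, ∃ _ : HenselianLocalRing (R ⧸ I i), IsSepClosed (ResidueField (R ⧸ I i)) := by
    intro i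
    fin_cases i
    · exact hSH a (hne _ _ hprod)
    · exact hSH (t - a) (hne _ a ((mul_comm _ _).trans hprod))
  choose hH hsep using hI
  have hpair : Pairwise fun i j => IsCoprime (I i) (I j) := by
    intro i j hij
    fin_cases i <;> fin_cases j <;> first | exact absurd rfl hij | exact hcop | exact hcop.symm
  refine ⟨Fin 2, inferInstance, fun i => R ⧸ I i, fun i => inferInstance, hH, hsep,
    ⟨((RingEquiv.quotientBot R).symm.trans (Ideal.quotEquivOfEq ?_)).trans (Ideal.quotientInfRingEquivPiQuotient I hpair)⟩⟩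
  rw [← hinf]
  refine le_antisymm (le_iInf fun i => ?_) (le_inf (iInf_le _ 0) (iInf_le _ 1))
  fin_cases i
  · exact inf_le_left
  · exact inf_le_right

end Groth.Agent.RInvLib
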