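import Groth.Agent.RInvLib.Local
import Mathlib.RingTheory.Flat.Basic
import Mathlib.RingTheory.Localization.AtPrime.Basic
import Mathlib.RingTheory.Localization.Away.Basic
import Mathlib.RingTheory.TensorProduct.Maps

/-! Base change of fixed rings and the branch locus. -/

namespace Groth.Agent.RInvLib

open scoped TensorProduct

universe u v w

section BaseChange

variable {S : Type u} {R : Type v} [CommRing S] [CommRing R] [Algebra S R] (S' : Type w) [CommRing S'] [Algebra S S']
  (lam : R ≃ₐ[S] R)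

/-- The involution after base change. -/
noncomputable abbrev bcLam : S' ⊗[S] R ≃ₐ[S'] S' ⊗[S] R :=
  Algebra.TensorProduct.congr (AlgEquiv.refl : S' ≃ₐ[S'] S') lam

theorem bcLam_tmul (a : S') (r : R) : bcLam S' lam (a ⊗ₜ[S] r) = a ⊗ₜ lam r := rfl

theorem bcLam_eq (z : S' ⊗[S] R) : bcLam S' lam z = LinearMap.lTensor S' lam.toLinearMap z := by
  induction z using TensorProduct.induction_on with
  | zero => simp
  | tmul a r => rfl
  | add x y hx hy => rw [map_add, map_add, hx, hy]

theorem bcLam_involutive (hlam : Function.Involutive lam) : Function.Involutive (bcLam S' lam) := fun z => by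
  induction z using TensorProduct.induction_on with
  | zero => simp
  | tmul a r => rw [bcLam_tmul, bcLam_tmul, hlam]
  | add x y hx hy => rw [map_add, map_add, hx, hy]

theorem algebraMap_eq_lTensor (a : S') :
    algebraMap S' (S' ⊗[S] R) a = LinearMap.lTensor S' (Algebra.linearMap S R) (a ⊗ₜ[S] 1) := by
  rw [LinearMap.lTensor_tmul, Algebra.linearMap_apply, map_one]
  rfl

theorem range_lTensor_linearMap (z : S' ⊗[S] S) :
    LinearMap.lTensor S' (Algebra.linearMap S R) z ∈ Set.range (algebraMap S' (S' ⊗[S] R)) :=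
  ⟨TensorProduct.rid S S' z, by
    conv_rhs => rw [← (TensorProduct.rid S S').symm_apply_apply z]
    rw [TensorProduct.rid_symm_apply, algebraMap_eq_lTensor]⟩

/-- The fixed ring commutes with flat base change, and with any base change if two is invertible. -/
theorem isFixedRing_baseChange (hlam : Function.Involutive lam) (hS : RInv.IsFixedRing S R lam.toRingEquiv)
    (h : Module.Flat S S' ∨ IsUnit (2 : S)) :
    RInv.IsFixedRing S' (S' ⊗[S] R) (bcLam S' lam).toRingEquiv := by
  have hfix : ∀ r, lam r = r ↔ r ∈ Set.range (algebraMap S R) := hS.2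
  suffices Function.Injective (LinearMap.lTensor S' (Algebra.linearMap S R)) ∧
      ∀ z, bcLam S' lam z = z → z ∈ Set.range (LinearMap.lTensor S' (Algebra.linearMap S R)) by
    obtain ⟨hinj, hrange⟩ := this
    refine ⟨fun a b hab => ?_, fun z => ⟨fun hz => ?_, ?_⟩⟩
    · rw [algebraMap_eq_lTensor, algebraMap_eq_lTensor] at hab
      simpa using congrArg (TensorProduct.rid S S') (hinj hab)
    · obtain ⟨y, rfl⟩ := hrange z hz
      exact range_lTensor_linearMap S' y
    · rintro ⟨a, rfl⟩
      exact (bcLam S' lam).commutes a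
  rcases h with hflat | h2
  · refine ⟨Module.Flat.lTensor_preserves_injective_linearMap _ hS.1, fun z hz => ?_⟩
    have hex : Function.Exact (Algebra.linearMap S R) ((lam.toLinearMap - (LinearMap.id : R →ₗ[S] R)) : R →ₗ[S] R) := fun r => by
      rw [LinearMap.sub_apply lam.toLinearMap LinearMap.id r, LinearMap.id_apply, sub_eq_zero]
      exact hfix r
    refine ((Module.Flat.lTensor_exact S' hex) z).mp ?_
    rw [LinearMap.lTensor_sub, LinearMap.lTensor_id, LinearMap.sub_apply, LinearMap.id_apply, ← bcLam_eq, hz, sub_self]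
  · obtain ⟨i, hi⟩ := h2.exists_left_inv
    have hmem : ∀ r, i • (r + lam r) ∈ LinearMap.range (Algebra.linearMap S R) := fun r => by
      obtain ⟨t, ht⟩ := exists_trace hlam hS r
      refine ⟨i * t, ?_⟩
      rw [Algebra.linearMap_apply, map_mul, ht, Algebra.smul_def]
      rfl
    let pr : R →ₗ[S] S := (LinearEquiv.ofInjective (Algebra.linearMap S R) hS.1).symm.toLinearMap ∘ₗ
      LinearMap.codRestrict _ (i • (LinearMap.id + lam.toLinearMap)) hmem
    have hpr : ∀ r, algebraMap S R (pr r) = i • (r + lam r) := fun r =>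
      congrArg Subtype.val ((LinearEquiv.ofInjective (Algebra.linearMap S R) hS.1).apply_symm_apply _)
    have hret : pr ∘ₗ Algebra.linearMap S R = LinearMap.id := LinearMap.ext fun s => hS.1 (by
      rw [LinearMap.comp_apply, Algebra.linearMap_apply, hpr, AlgEquiv.commutes, LinearMap.id_apply, ← two_smul S,
        smul_smul, hi, one_smul])
    have hcomp : Algebra.linearMap S R ∘ₗ pr = i • (LinearMap.id + lam.toLinearMap) := LinearMap.ext fun r => by
      rw [LinearMap.comp_apply, Algebra.linearMap_apply, hpr]; rfl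
    refine ⟨Function.LeftInverse.injective (g := LinearMap.lTensor S' pr) fun z => ?_, fun z hz =>
      ⟨LinearMap.lTensor S' pr z, ?_⟩⟩
    · rw [← LinearMap.lTensor_comp_apply, hret, LinearMap.lTensor_id, LinearMap.id_apply]
    · rw [← LinearMap.lTensor_comp_apply, hcomp, LinearMap.lTensor_smul, LinearMap.lTensor_add, LinearMap.lTensor_id,
        LinearMap.smul_apply, LinearMap.add_apply, LinearMap.id_apply, ← bcLam_eq, hz, ← two_smul S, smul_smul, hi,
        one_smul]

end BaseChange

section Branch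

variable {S : Type u} {R : Type v} [CommRing S] [CommRing R] [Algebra S R] {lam : R ≃+* R}

theorem isQuadEtale_away_disc (hlam : Function.Involutive lam) (hS : RInv.IsFixedRing S R lam) (T : Type w)
    [CommRing T] [Algebra S T] (hT : Module.Flat S T) {r : R} {D : S}
    (hD : algebraMap S R D = (r - lam r) * (r - lam r)) (hu : IsUnit (algebraMap S T D)) :
    RInv.IsQuadEtale T (T ⊗[S] R) := by
  refine isQuadEtale_of_isUnit (lam := (bcLam T (lamAlg hS)).toRingEquiv) (bcLam_involutive T _ hlam)
    (isFixedRing_baseChange T (lamAlg hS) hlam hS (Or.inl hT)) (r := (1 : T) ⊗ₜ[S] r) ?_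
  show IsUnit ((1 : T) ⊗ₜ[S] r - (1 : T) ⊗ₜ[S] lam r)
  rw [← TensorProduct.tmul_sub]
  refine isUnit_of_mul_isUnit_left (y := (1 : T) ⊗ₜ[S] (r - lam r)) ?_
  rw [Algebra.TensorProduct.tmul_mul_tmul, one_mul, ← hD, Algebra.algebraMap_eq_smul_one, TensorProduct.tmul_smul,
    TensorProduct.smul_tmul', ← Algebra.algebraMap_eq_smul_one]
  exact hu.map (Algebra.TensorProduct.includeLeft : T →ₐ[T] T ⊗[S] R)

theorem exists_clear_denominator (p : Ideal S) [p.IsPrime] (z : Localization.AtPrime p ⊗[S] R) :
    ∃ (t : p.primeCompl) (r : R),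
      algebraMap S (Localization.AtPrime p) t • z = (1 : Localization.AtPrime p) ⊗ₜ[S] r := by
  induction z using TensorProduct.induction_on with
  | zero => exact ⟨1, 0, by simp⟩
  | tmul a r =>
    obtain ⟨⟨s, t⟩, rfl⟩ := IsLocalization.mk'_surjective p.primeCompl a
    refine ⟨t, s • r, ?_⟩
    rw [TensorProduct.smul_tmul', smul_eq_mul, IsLocalization.mk'_spec', Algebra.algebraMap_eq_smul_one,
      TensorProduct.smul_tmul]
  | add x y hx hy =>
    obtain ⟨t, r, h⟩ := hx
    obtain ⟨t', r', h'⟩ := hy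
    refine ⟨t * t', (t' : S) • r + (t : S) • r', ?_⟩
    rw [Submonoid.coe_mul, map_mul, smul_add]
    conv_lhs => arg 1; rw [mul_comm, mul_smul, h]
    conv_lhs => arg 2; rw [mul_smul, h']
    rw [algebraMap_smul, algebraMap_smul, ← TensorProduct.tmul_smul, ← TensorProduct.tmul_smul,
      ← TensorProduct.tmul_add]

theorem exists_disc_notMem (hlam : Function.Involutive lam) (hS : RInv.IsFixedRing S R lam) (p : Ideal S) [p.IsPrime]
    (hp : RInv.IsQuadEtale (Localization.AtPrime p) (Localization.AtPrime p ⊗[S] R)) :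
    ∃ r D, algebraMap S R D = (r - lam r) * (r - lam r) ∧ D ∉ p := by
  haveI : Module.Flat S (Localization.AtPrime p) := IsLocalization.flat _ p.primeCompl
  have hS' := isFixedRing_baseChange (Localization.AtPrime p) (lamAlg hS) hlam hS (Or.inl inferInstance)
  have hlam' : Function.Involutive (bcLam (Localization.AtPrime p) (lamAlg hS)).toRingEquiv :=
    bcLam_involutive _ _ hlam
  obtain ⟨z, hz⟩ := exists_isUnit_sub hlam' hS' hp
  obtain ⟨t, r, htr⟩ := exists_clear_denominator p z
  obtain ⟨D, hD⟩ := exists_disc hlam hS r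
  refine ⟨r, D, hD, ?_⟩
  have hsm : ∀ (a : Localization.AtPrime p) (x : Localization.AtPrime p ⊗[S] R),
      a • x = algebraMap (Localization.AtPrime p) (Localization.AtPrime p ⊗[S] R) a * x :=
    fun a x => Algebra.smul_def a x
  have h1 : IsUnit ((1 : Localization.AtPrime p) ⊗ₜ[S] (r - lam r)) := by
    rw [TensorProduct.tmul_sub, ← htr,
      show (1 : Localization.AtPrime p) ⊗ₜ[S] lam r = bcLam (Localization.AtPrime p) (lamAlg hS) (1 ⊗ₜ r) from rfl,
      ← htr, map_smul, hsm, hsm, ← mul_sub]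
    exact ((IsLocalization.map_units (Localization.AtPrime p) t).map _).mul hz
  have h2 : IsUnit (algebraMap (Localization.AtPrime p) (Localization.AtPrime p ⊗[S] R) (algebraMap S _ D)) := by
    have := h1.mul h1
    rw [Algebra.TensorProduct.tmul_mul_tmul, one_mul, ← hD, Algebra.algebraMap_eq_smul_one,
      TensorProduct.tmul_smul, TensorProduct.smul_tmul', ← Algebra.algebraMap_eq_smul_one] at this
    exact this
  obtain ⟨d, hd⟩ := h2.exists_right_inv
  have hd' : bcLam (Localization.AtPrime p) (lamAlg hS) d = d := by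
    have h3 := congrArg (bcLam (Localization.AtPrime p) (lamAlg hS)) hd
    rw [map_mul, map_one, AlgEquiv.commutes] at h3
    exact h2.mul_left_cancel (h3.trans hd.symm)
  obtain ⟨d', rfl⟩ := (hS'.2 d).mp hd'
  have h4 : IsUnit (algebraMap S (Localization.AtPrime p) D) :=
    IsUnit.of_mul_eq_one d' (hS'.1 (by rw [map_mul, hd, map_one]))
  exact (IsLocalization.AtPrime.isUnit_to_map_iff (Localization.AtPrime p) p D).mp h4

/-- Away from the branch locus some discriminant does not vanish. -/
theorem isQuadEtale_atPrime_iff (hlam : Function.Involutive lam) (hS : RInv.IsFixedRing S R lam) (p : Ideal S)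
    [p.IsPrime] :
    RInv.IsQuadEtale (Localization.AtPrime p) (Localization.AtPrime p ⊗[S] R) ↔
      ∃ r D, algebraMap S R D = (r - lam r) * (r - lam r) ∧ D ∉ p := by
  refine ⟨exists_disc_notMem hlam hS p, fun ⟨r, D, hD, hDp⟩ => ?_⟩
  exact isQuadEtale_away_disc hlam hS _ (IsLocalization.flat _ p.primeCompl) hD
    (IsLocalization.map_units (Localization.AtPrime p) (⟨D, hDp⟩ : p.primeCompl))

theorem exists_isQuadEtale_away (hlam : Function.Involutive lam) (hS : RInv.IsFixedRing S R lam) (p : Ideal S)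
    [p.IsPrime] (hp : RInv.IsQuadEtale (Localization.AtPrime p) (Localization.AtPrime p ⊗[S] R)) :
    ∃ s : S, s ∉ p ∧ RInv.IsQuadEtale (Localization.Away s) (Localization.Away s ⊗[S] R) := by
  obtain ⟨r, D, hD, hDp⟩ := exists_disc_notMem hlam hS p hp
  exact ⟨D, hDp, isQuadEtale_away_disc hlam hS _ (IsLocalization.flat _ (Submonoid.powers D)) hD
    (IsLocalization.Away.algebraMap_isUnit D)⟩

theorem trivial_of_branch (hlam : Function.Involutive lam) (hS : RInv.IsFixedRing S R lam) {p : Ideal S} [p.IsPrime]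
    (hp : ¬ RInv.IsQuadEtale (Localization.AtPrime p) (Localization.AtPrime p ⊗[S] R)) {q : Ideal R} [q.IsPrime]
    (hqp : q.comap (algebraMap S R) = p) (r : R) : lam r - r ∈ q := by
  obtain ⟨D, hD⟩ := exists_disc hlam hS r
  have hDp : D ∈ p := by
    by_contra h
    exact hp ((isQuadEtale_atPrime_iff hlam hS p).mpr ⟨r, D, hD, h⟩)
  rw [← hqp, Ideal.mem_comap, hD] at hDp
  rw [← neg_sub, Ideal.neg_mem_iff]
  exact (Ideal.IsPrime.mem_or_mem inferInstance hDp).elim id id

theorem eq_of_branch (hlam : Function.Involutive lam) (hS : RInv.IsFixedRing S R lam) {p : Ideal S} [p.IsPrime]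
    (hp : ¬ RInv.IsQuadEtale (Localization.AtPrime p) (Localization.AtPrime p ⊗[S] R)) {q q' : Ideal R} [q.IsPrime]
    [q'.IsPrime] (hqp : q.comap (algebraMap S R) = p) (hqp' : q'.comap (algebraMap S R) = p) : q' = q := by
  rcases eq_or_eq_comap hlam hS (q := q') (q' := q) (hqp'.trans hqp.symm) with e | e
  · exact e
  · rw [e, comap_lam_of_forall (trivial_of_branch hlam hS hp hqp)]

theorem branch_iff (hlam : Function.Involutive lam) (hS : RInv.IsFixedRing S R lam) (p : PrimeSpectrum S) :
    ¬ RInv.IsQuadEtale (Localization.AtPrime p.asIdeal) (Localization.AtPrime p.asIdeal ⊗[S] R) ↔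
      ∃ q : PrimeSpectrum R, q.asIdeal.comap (algebraMap S R) = p.asIdeal ∧
        (∀ q' : PrimeSpectrum R, q'.asIdeal.comap (algebraMap S R) = p.asIdeal → q' = q) ∧
        ∀ r : R, lam r - r ∈ q.asIdeal := by
  constructor
  · intro hp
    obtain ⟨q, hq, hqp⟩ := exists_over hlam hS p.asIdeal
    exact ⟨⟨q, hq⟩, hqp, fun q' h => PrimeSpectrum.ext (eq_of_branch hlam hS hp hqp h),
      trivial_of_branch hlam hS hp hqp⟩
  · rintro ⟨q, hqp, -, htriv⟩ hp
    obtain ⟨r, D, hD, hDp⟩ := exists_disc_notMem hlam hS _ hp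
    refine hDp ?_
    rw [← hqp, Ideal.mem_comap, hD]
    refine q.asIdeal.mul_mem_left _ ?_
    rw [← neg_sub, Ideal.neg_mem_iff]
    exact htriv r

theorem sub_mem_radical (hlam : Function.Involutive lam) (hS : RInv.IsFixedRing S R lam)
    (W : Set (PrimeSpectrum S))
    (hW : W = {p : PrimeSpectrum S | ¬ RInv.IsQuadEtale (Localization.AtPrime p.asIdeal) (Localization.AtPrime p.asIdeal ⊗[S] R)})
    (r : R) : lam r - r ∈ ((PrimeSpectrum.vanishingIdeal W).map (algebraMap S R)).radical := by
  obtain ⟨D, hD⟩ := exists_disc hlam hS r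
  refine ⟨2, ?_⟩
  rw [pow_two, show (lam r - r) * (lam r - r) = algebraMap S R D by rw [hD]; ring]
  refine Ideal.mem_map_of_mem _ ((PrimeSpectrum.mem_vanishingIdeal _ _).mpr fun p hp => ?_)
  rw [hW] at hp
  by_contra h
  exact hp ((isQuadEtale_atPrime_iff hlam hS p.asIdeal).mpr ⟨r, D, hD, h⟩)

theorem isClosed_branch (hlam : Function.Involutive lam) (hS : RInv.IsFixedRing S R lam) :
    IsClosed {p : PrimeSpectrum S |
      ¬ RInv.IsQuadEtale (Localization.AtPrime p.asIdeal) (Localization.AtPrime p.asIdeal ⊗[S] R)} := by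
  have : {p : PrimeSpectrum S |
      ¬ RInv.IsQuadEtale (Localization.AtPrime p.asIdeal) (Localization.AtPrime p.asIdeal ⊗[S] R)} =
      PrimeSpectrum.zeroLocus {D : S | ∃ r, algebraMap S R D = (r - lam r) * (r - lam r)} := by
    ext p
    simp only [Set.mem_setOf_eq, isQuadEtale_atPrime_iff hlam hS, PrimeSpectrum.mem_zeroLocus]
    push Not
    exact ⟨fun h D ⟨r, hD⟩ => h r D hD, fun h r D hD => h ⟨r, hD⟩⟩
  rw [this]
  exact PrimeSpectrum.isClosed_zeroLocus _

theorem branch_homeomorph (hlam : Function.Involutive lam) (hS : RInv.IsFixedRing S R lam)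
    (W : Set (PrimeSpectrum S))
    (hW : W = {p : PrimeSpectrum S | ¬ RInv.IsQuadEtale (Localization.AtPrime p.asIdeal) (Localization.AtPrime p.asIdeal ⊗[S] R)})
    (J : Ideal R) (hJ : J = ((PrimeSpectrum.vanishingIdeal W).map (algebraMap S R)).radical)
    (hIJ : PrimeSpectrum.vanishingIdeal W ≤ J.comap (algebraMap S R)) :
    IsHomeomorph (PrimeSpectrum.comap (Ideal.quotientMap J (algebraMap S R) hIJ)) ∧
      (IsUnit (2 : S) → Function.Bijective (Ideal.quotientMap J (algebraMap S R) hIJ)) := by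
  set I := PrimeSpectrum.vanishingIdeal W with hI
  set φ := Ideal.quotientMap J (algebraMap S R) hIJ
  have hWmem : ∀ p : PrimeSpectrum S, I ≤ p.asIdeal → p ∈ W := fun p hp => by
    have h1 : p ∈ PrimeSpectrum.zeroLocus (I : Set S) := hp
    rwa [hI, PrimeSpectrum.zeroLocus_vanishingIdeal_eq_closure, (hW ▸ isClosed_branch hlam hS : IsClosed W).closure_eq] at h1
  have hcomap : ∀ y : Ideal (R ⧸ J),
      (y.comap φ).comap (Ideal.Quotient.mk I) = (y.comap (Ideal.Quotient.mk J)).comap (algebraMap S R) :=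
    fun y => Ideal.ext fun s => Iff.rfl
  have hle : ∀ y : PrimeSpectrum (R ⧸ J), I ≤ (y.asIdeal.comap φ).comap (Ideal.Quotient.mk I) := fun y s hs => by
    rw [Ideal.mem_comap, Ideal.Quotient.eq_zero_iff_mem.mpr hs]; exact Ideal.zero_mem _
  have hint : φ.IsIntegral := by
    refine RingHom.IsIntegral.tower_top (Ideal.Quotient.mk I) φ ?_
    rw [Ideal.quotientMap_comp_mk]
    exact (ringHom_isIntegral hlam hS).trans _ _ (RingHom.isIntegral_of_surjective _ Ideal.Quotient.mk_surjective)
  have hbij : Function.Bijective (PrimeSpectrum.comap φ) := by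
    constructor
    · intro y y' h
      refine PrimeSpectrum.ext (Ideal.comap_injective_of_surjective _ Ideal.Quotient.mk_surjective ?_)
      have h' : (y'.asIdeal.comap φ).comap (Ideal.Quotient.mk I) = (y.asIdeal.comap φ).comap (Ideal.Quotient.mk I) :=
        congrArg (fun z : PrimeSpectrum (S ⧸ I) => z.asIdeal.comap (Ideal.Quotient.mk I)) h.symm
      have hp := hWmem ⟨(y.asIdeal.comap φ).comap (Ideal.Quotient.mk I), inferInstance⟩ (hle y)
      rw [hW] at hp
      exact (eq_of_branch hlam hS hp (hcomap y.asIdeal).symm ((hcomap y'.asIdeal).symm.trans h')).symm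
    · intro x
      have hx : I ≤ x.asIdeal.comap (Ideal.Quotient.mk I) := fun s hs => by
        rw [Ideal.mem_comap, Ideal.Quotient.eq_zero_iff_mem.mpr hs]; exact Ideal.zero_mem _
      obtain ⟨q, hq, hqp⟩ := exists_over hlam hS (x.asIdeal.comap (Ideal.Quotient.mk I))
      have hJq : J ≤ q := by
        rw [hJ]
        exact hq.radical_le_iff.mpr (Ideal.map_le_iff_le_comap.mpr (hqp ▸ hx))
      haveI := hq
      haveI hmapP : (q.map (Ideal.Quotient.mk J)).IsPrime :=
        Ideal.map_isPrime_of_surjective Ideal.Quotient.mk_surjective (by rwa [Ideal.mk_ker])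
      refine ⟨⟨_, hmapP⟩, PrimeSpectrum.ext (Ideal.comap_injective_of_surjective _ Ideal.Quotient.mk_surjective ?_)⟩
      show ((q.map (Ideal.Quotient.mk J)).comap φ).comap (Ideal.Quotient.mk I) = _
      rw [hcomap, Ideal.comap_map_of_surjective _ Ideal.Quotient.mk_surjective, ← RingHom.ker_eq_comap_bot, Ideal.mk_ker,
        sup_eq_left.mpr hJq, hqp]
  refine ⟨isHomeomorph_iff_continuous_isClosedMap_bijective.mpr
    ⟨PrimeSpectrum.continuous_comap φ, PrimeSpectrum.isClosedMap_comap_of_isIntegral φ hint, hbij⟩, fun h2 => ⟨?_, ?_⟩⟩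
  · refine (injective_iff_map_eq_zero φ).mpr fun x hx => ?_
    obtain ⟨s, rfl⟩ := Ideal.Quotient.mk_surjective x
    rw [Ideal.quotientMap_mk, Ideal.Quotient.eq_zero_iff_mem] at hx
    rw [Ideal.Quotient.eq_zero_iff_mem, hI, PrimeSpectrum.mem_vanishingIdeal]
    intro p hp
    obtain ⟨q, hq, hqp⟩ := exists_over hlam hS p.asIdeal
    have hIp : I ≤ p.asIdeal := fun a ha => (PrimeSpectrum.mem_vanishingIdeal _ _).mp ha p hp
    rw [← hqp, Ideal.mem_comap]
    rw [hJ] at hx
    exact hq.radical_le_iff.mpr (Ideal.map_le_iff_le_comap.mpr (hqp ▸ hIp)) hx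
  · intro y
    obtain ⟨r, rfl⟩ := Ideal.Quotient.mk_surjective y
    obtain ⟨i, hi⟩ := h2.exists_left_inv
    obtain ⟨t, ht⟩ := exists_trace hlam hS r
    refine ⟨Ideal.Quotient.mk I (i * t), ?_⟩
    have h2' : algebraMap S R i * 2 = 1 := by rw [← map_ofNat (algebraMap S R) 2, ← map_mul, hi, map_one]
    rw [Ideal.quotientMap_mk, Ideal.Quotient.eq, hJ, map_mul, ht,
      show algebraMap S R i * (r + lam r) - r = algebraMap S R i * (lam r - r) by
        linear_combination r * h2']
    exact Ideal.mul_mem_left _ _ (sub_mem_radical hlam hS W hW r)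

end Branch

end Groth.Agent.RInvLib
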