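import Groth.Prelude.Def_W4c2azumayainvolQEt
import Mathlib.RingTheory.Ideal.GoingUp
import Mathlib.RingTheory.Kaehler.Basic
import Mathlib.LinearAlgebra.Basis.Basic

/-! Rings with an involution over their fixed rings. -/

namespace Groth.Agent.RInvLib

open Polynomial

universe u v

variable {S : Type u} {R : Type v} [CommRing S] [CommRing R] [Algebra S R] {lam : R ≃+* R}

theorem lam_algebraMap (hS : RInv.IsFixedRing S R lam) (s : S) : lam (algebraMap S R s) = algebraMap S R s :=
  (hS.2 _).mpr ⟨s, rfl⟩

/-- The involution as an algebra equivalence over the fixed ring. -/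
def lamAlg (hS : RInv.IsFixedRing S R lam) : R ≃ₐ[S] R :=
  { lam with commutes' := lam_algebraMap hS }

theorem lamAlg_apply (hS : RInv.IsFixedRing S R lam) (r : R) : lamAlg hS r = lam r := rfl

theorem exists_trace (hlam : Function.Involutive lam) (hS : RInv.IsFixedRing S R lam) (r : R) :
    ∃ t : S, algebraMap S R t = r + lam r :=
  (hS.2 _).mp (by rw [map_add, hlam, add_comm])

theorem exists_norm (hlam : Function.Involutive lam) (hS : RInv.IsFixedRing S R lam) (r : R) :
    ∃ N : S, algebraMap S R N = r * lam r :=
  (hS.2 _).mp (by rw [map_mul, hlam, mul_comm])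

theorem exists_disc (hlam : Function.Involutive lam) (hS : RInv.IsFixedRing S R lam) (r : R) :
    ∃ D : S, algebraMap S R D = (r - lam r) * (r - lam r) :=
  (hS.2 _).mp (by rw [map_mul, map_sub, hlam]; ring)

theorem isIntegral (hlam : Function.Involutive lam) (hS : RInv.IsFixedRing S R lam) : Algebra.IsIntegral S R := by
  refine ⟨fun r => ?_⟩
  obtain ⟨t, ht⟩ := exists_trace hlam hS r
  obtain ⟨N, hN⟩ := exists_norm hlam hS r
  refine ⟨X ^ 2 + (C (-t) * X + C N), monic_X_pow_add (degree_linear_le.trans_lt (by norm_num)), ?_⟩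
  simp only [eval₂_add, eval₂_pow, eval₂_mul, eval₂_C, eval₂_X, map_neg, eval₂_neg, ht, hN]
  ring

theorem ringHom_isIntegral (hlam : Function.Involutive lam) (hS : RInv.IsFixedRing S R lam) :
    (algebraMap S R).IsIntegral :=
  fun x => (isIntegral hlam hS).isIntegral x

theorem comap_comap (hS : RInv.IsFixedRing S R lam) (q : Ideal R) :
    (q.comap lam).comap (algebraMap S R) = q.comap (algebraMap S R) :=
  Ideal.ext fun s => by simp only [Ideal.mem_comap, lam_algebraMap hS]

theorem comap_lam_of_forall {q : Ideal R} (h : ∀ r, lam r - r ∈ q) : q.comap lam = q :=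
  Ideal.ext fun r => by
    rw [Ideal.mem_comap]
    exact ⟨fun h1 => by simpa using q.sub_mem h1 (h r), fun h1 => by simpa using q.add_mem h1 (h r)⟩

theorem exists_over (hlam : Function.Involutive lam) (hS : RInv.IsFixedRing S R lam) (p : Ideal S) [p.IsPrime] :
    ∃ q : Ideal R, q.IsPrime ∧ q.comap (algebraMap S R) = p := by
  haveI := isIntegral hlam hS
  obtain ⟨q, -, hq, hqp⟩ := Ideal.exists_ideal_over_prime_of_isIntegral p (⊥ : Ideal R) (by
    rw [Ideal.comap_bot_of_injective _ hS.1]; exact bot_le)
  exact ⟨q, hq, hqp⟩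

/-- The primes over a given prime are permuted transitively by the involution. -/
theorem eq_or_eq_comap (hlam : Function.Involutive lam) (hS : RInv.IsFixedRing S R lam) {q q' : Ideal R}
    [q.IsPrime] [q'.IsPrime] (h : q.comap (algebraMap S R) = q'.comap (algebraMap S R)) :
    q = q' ∨ q = q'.comap lam := by
  haveI := isIntegral hlam hS
  have hsub : (q : Set R) ⊆ (q' : Set R) ∪ (q'.comap lam : Set R) := fun x hx => by
    obtain ⟨N, hN⟩ := exists_norm hlam hS x
    have h1 : N ∈ q.comap (algebraMap S R) := by
      rw [Ideal.mem_comap, hN]; exact q.mul_mem_right _ hx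
    rw [h, Ideal.mem_comap, hN] at h1
    exact (Ideal.IsPrime.mem_or_mem inferInstance h1).imp id id
  have key : ∀ q'' : Ideal R, q ≤ q'' → q''.comap (algebraMap S R) = q.comap (algebraMap S R) → q = q'' :=
    fun q'' hle he => eq_of_le_of_not_lt hle fun hlt => by
      exact (Ideal.IsIntegral.comap_lt_comap hlt).ne he.symm
  rcases (Ideal.subset_union).mp hsub with h1 | h1
  · exact Or.inl (key q' h1 h.symm)
  · exact Or.inr (key (q'.comap lam) h1 (by rw [comap_comap hS, h]))

theorem isMaximal_comap (hlam : Function.Involutive lam) (hS : RInv.IsFixedRing S R lam) [IsLocalRing S]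
    (M : Ideal R) [M.IsMaximal] : M.comap (algebraMap S R) = IsLocalRing.maximalIdeal S := by
  haveI := isIntegral hlam hS
  exact IsLocalRing.eq_maximalIdeal (Ideal.isMaximal_comap_of_isIntegral_of_isMaximal M)

theorem isUnit_of_notMem (hlam : Function.Involutive lam) (hS : RInv.IsFixedRing S R lam) [IsLocalRing S]
    (M : Ideal R) [hM : M.IsMaximal] {x : R} (h1 : x ∉ M) (h2 : lam x ∉ M) : IsUnit x := by
  obtain ⟨N, hN⟩ := exists_norm hlam hS x
  have hu : IsUnit N := by
    rw [← IsLocalRing.notMem_maximalIdeal, ← isMaximal_comap hlam hS M, Ideal.mem_comap, hN]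
    exact fun h => (hM.isPrime.mem_or_mem h).elim h1 h2
  exact isUnit_of_mul_isUnit_left (hN ▸ hu.map (algebraMap S R) : IsUnit (x * lam x))

theorem exists_isUnit_sub_of_notMem_jacobson (hlam : Function.Involutive lam) (hS : RInv.IsFixedRing S R lam)
    [IsLocalRing S] {r : R} (h : lam r - r ∉ Ring.jacobson R) : IsUnit (r - lam r) := by
  rw [Ring.jacobson_eq_sInf_isMaximal, Ideal.mem_sInf] at h
  push Not at h
  obtain ⟨M, hM, hmem⟩ := h
  haveI : M.IsMaximal := hM
  refine isUnit_of_notMem hlam hS M (fun h1 => hmem ?_) (fun h1 => hmem ?_)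
  · rw [← neg_sub]; exact M.neg_mem h1
  · rwa [map_sub, hlam] at h1

/-- An element with invertible difference from its conjugate gives a quadratic étale algebra. -/
theorem isQuadEtale_of_isUnit (hlam : Function.Involutive lam) (hS : RInv.IsFixedRing S R lam) {r : R}
    (hr : IsUnit (r - lam r)) : RInv.IsQuadEtale S R := by
  obtain ⟨w, hw⟩ := hr.exists_left_inv
  have hlw : lam w * (lam r - r) = 1 := by
    have h1 := congrArg lam hw
    rwa [map_mul, map_sub, hlam, map_one] at h1
  let f : (Fin 2 → S) →ₗ[S] R :=
    (LinearMap.proj (R := S) (φ := fun _ : Fin 2 => S) 0).smulRight (1 : R) +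
      (LinearMap.proj (R := S) (φ := fun _ : Fin 2 => S) 1).smulRight r
  have hf : ∀ c, f c = algebraMap S R (c 0) + algebraMap S R (c 1) * r := fun c => by
    simp [f, Algebra.smul_def]
  have hbij : Function.Bijective f := by
    refine ⟨(injective_iff_map_eq_zero f).mpr fun c hc => ?_, fun x => ?_⟩
    · rw [hf] at hc
      have h1 := congrArg lam hc
      rw [map_add, map_mul, lam_algebraMap hS, lam_algebraMap hS, map_zero] at h1
      have hb : c 1 = 0 := hS.1 (by
        rw [map_zero]
        linear_combination w * hc - w * h1 - algebraMap S R (c 1) * hw)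
      have ha : c 0 = 0 := hS.1 (by
        rw [hb, map_zero, zero_mul, add_zero] at hc
        rw [hc, map_zero])
      funext i; fin_cases i <;> assumption
    · obtain ⟨b, hb⟩ := (hS.2 ((x - lam x) * w)).mp (by
        rw [map_mul, map_sub, hlam]
        linear_combination (x - lam x) * lam w * hw + (x - lam x) * w * hlw)
      obtain ⟨a, ha⟩ := (hS.2 (x - algebraMap S R b * r)).mp (by
        rw [map_sub, map_mul, lam_algebraMap hS, hb]
        linear_combination (x - lam x) * hw)
      exact ⟨![a, b], by rw [hf]; simp [ha]⟩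
  let e := LinearEquiv.ofBijective f hbij
  haveI : Module.Free S R := Module.Free.of_equiv e
  haveI : Module.Finite S R := Module.Finite.equiv e
  refine ⟨inferInstance, inferInstance, ⟨?_⟩, fun p => ?_⟩
  · have hD : ∀ x, KaehlerDifferential.D S R x = 0 := fun x => by
      obtain ⟨t, ht⟩ := exists_trace hlam hS r
      obtain ⟨N, hN⟩ := exists_norm hlam hS r
      have hr2 : r * r = t • r - algebraMap S R N := by rw [Algebra.smul_def, ht, hN]; ring
      have h1 := congrArg (KaehlerDifferential.D S R) hr2
      rw [Derivation.leibniz, map_sub, Derivation.map_smul, Derivation.map_algebraMap, sub_zero,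
        ← algebraMap_smul R t, ← add_smul, ← sub_eq_zero, ← sub_smul, ht] at h1
      have hr0 : KaehlerDifferential.D S R r = 0 := by
        have h2 := congrArg (w • ·) h1
        simp only [smul_smul, smul_zero] at h2
        rwa [show w * (r + r - (r + lam r)) = 1 by linear_combination hw, one_smul] at h2
      obtain ⟨c, rfl⟩ := hbij.2 x
      rw [hf, ← Algebra.smul_def, map_add, Derivation.map_algebraMap, Derivation.map_smul, hr0, smul_zero, add_zero]
    refine (Submodule.subsingleton_iff R).mp (subsingleton_of_top_le_bot ?_)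
    rw [← KaehlerDifferential.span_range_derivation S R, Submodule.span_le]
    rintro _ ⟨x, rfl⟩
    exact hD x
  · haveI : Nontrivial S := p.nontrivial
    rw [Module.rankAtStalk_eq_finrank_of_free, Pi.natCast_apply, ← e.finrank_eq, Module.finrank_fin_fun]
    rfl

end Groth.Agent.RInvLib
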