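import Groth.Agent.RInvLib.Local
import Groth.Agent.QFormLib.Disc
import Mathlib.LinearAlgebra.Matrix.NonsingularInverse
import Mathlib.LinearAlgebra.Matrix.SchurComplement
import Mathlib.Algebra.CharP.Two

/-! Normal forms of hermitian matrices over rings with an involution with local fixed ring. -/

namespace Groth.Agent.RInvLib

open Matrix

universe u v w w'

variable {B : Type u} {A : Type v} [CommRing B] [CommRing A] [Algebra B A] (lam : A ≃+* A)
  {ι : Type w} [Fintype ι] [DecidableEq ι] {κ : Type w'} [Fintype κ] [DecidableEq κ]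

/-- The congruence of a matrix by another. -/
def cg (h v : Matrix ι ι A) : Matrix ι ι A := (v.map lam).transpose * h * v

theorem cg_mul (h u v : Matrix ι ι A) : cg lam h (u * v) = cg lam (cg lam h u) v := by
  simp only [cg, Matrix.map_mul, transpose_mul, Matrix.mul_assoc]

theorem cg_one (h : Matrix ι ι A) : cg lam h 1 = h := by simp [cg]

theorem isUnit_cg {h v : Matrix ι ι A} (hh : IsUnit h) (hv : IsUnit v) : IsUnit (cg lam h v) := by
  refine ((?_ : IsUnit (v.map lam).transpose).mul hh).mul hv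
  rw [Matrix.isUnit_iff_isUnit_det] at hv ⊢
  rw [det_transpose, show v.map lam = lam.toRingHom.mapMatrix v from rfl, ← RingHom.map_det]
  exact hv.map _

/-- Hermitian matrices. -/
def IsHerm (ε : A) (h : Matrix ι ι A) : Prop := ε • (h.map lam).transpose = h

variable {lam}

theorem IsHerm.apply {ε : A} {h : Matrix ι ι A} (hh : IsHerm lam ε h) (i j : ι) : ε * lam (h j i) = h i j := by
  have := congrFun (congrFun hh i) j
  simpa using this

theorem isHerm_of_apply {ε : A} {h : Matrix ι ι A} (hh : ∀ i j, ε * lam (h j i) = h i j) : IsHerm lam ε h := by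
  ext i j; simpa using hh i j

theorem IsHerm.cg (hlam : Function.Involutive lam) {ε : A} {h : Matrix ι ι A} (hh : IsHerm lam ε h) (v : Matrix ι ι A) :
    IsHerm lam ε (RInvLib.cg lam h v) := by
  have hll : ∀ M : Matrix ι ι A, ((M.map lam).transpose.map lam).transpose = M := fun M => by
    ext i j; simp [hlam (M i j)]
  unfold IsHerm RInvLib.cg
  rw [Matrix.map_mul, Matrix.map_mul, transpose_mul, transpose_mul, hll, ← Matrix.mul_assoc,
    show ε • ((v.map lam).transpose * (h.map lam).transpose * v) = (v.map lam).transpose * (ε • (h.map lam).transpose) * v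
      by rw [Matrix.mul_smul, Matrix.smul_mul], show ε • (h.map lam).transpose = h from hh]

theorem cg_submatrix (h v : Matrix ι ι A) (e : κ ≃ ι) :
    cg lam (h.submatrix e e) (v.submatrix e e) = (cg lam h v).submatrix e e := by
  simp only [cg, ← submatrix_map, transpose_submatrix, submatrix_mul_equiv]

theorem cg_submatrix_symm (h : Matrix ι ι A) (v : Matrix κ κ A) (e : κ ≃ ι) :
    cg lam h (v.submatrix e.symm e.symm) = (cg lam (h.submatrix e e) v).submatrix e.symm e.symm := by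
  rw [← cg_submatrix]
  congr 1
  ext i j; simp

theorem isUnit_submatrix {h : Matrix ι ι A} (hh : IsUnit h) (e : κ ≃ ι) : IsUnit (h.submatrix e e) := by
  rw [Matrix.isUnit_iff_isUnit_det] at hh ⊢
  rwa [det_submatrix_equiv_self]

theorem cg_blocks (B₁ V₁ : Matrix ι ι A) (B₂ V₂ : Matrix κ κ A) :
    cg lam (fromBlocks B₁ 0 0 B₂) (fromBlocks V₁ 0 0 V₂) = fromBlocks (cg lam B₁ V₁) 0 0 (cg lam B₂ V₂) := by
  simp [cg, fromBlocks_map, fromBlocks_transpose, fromBlocks_multiply, Matrix.mul_assoc]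

theorem isUnit_blocks {B₁ : Matrix ι ι A} {B₂ : Matrix κ κ A} (h1 : IsUnit B₁) (h2 : IsUnit B₂) :
    IsUnit (fromBlocks B₁ 0 0 B₂) := by
  rw [Matrix.isUnit_iff_isUnit_det] at h1 h2 ⊢
  rw [det_fromBlocks_zero₂₁]
  exact h1.mul h2

/-- Clearing a block with invertible corner. -/
theorem exists_clear (hlam : Function.Involutive lam) {ε : A} {h : Matrix (ι ⊕ κ) (ι ⊕ κ) A} (hh : IsUnit h)
    (herm : IsHerm lam ε h) (hB : IsUnit h.toBlocks₁₁) :
    ∃ v, IsUnit v ∧ cg lam h v = fromBlocks h.toBlocks₁₁ 0 0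
        (h.toBlocks₂₂ - h.toBlocks₂₁ * h.toBlocks₁₁⁻¹ * h.toBlocks₁₂) ∧
      IsUnit (h.toBlocks₂₂ - h.toBlocks₂₁ * h.toBlocks₁₁⁻¹ * h.toBlocks₁₂) ∧
      IsHerm lam ε (h.toBlocks₂₂ - h.toBlocks₂₁ * h.toBlocks₁₁⁻¹ * h.toBlocks₁₂) := by
  have hBd : IsUnit h.toBlocks₁₁.det := (Matrix.isUnit_iff_isUnit_det _).mp hB
  let v : Matrix (ι ⊕ κ) (ι ⊕ κ) A := fromBlocks 1 (-(h.toBlocks₁₁⁻¹ * h.toBlocks₁₂)) 0 1
  have hv : IsUnit v := by
    rw [Matrix.isUnit_iff_isUnit_det, det_fromBlocks_zero₂₁, det_one, det_one, mul_one]; exact isUnit_one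
  have hhv : h * v = fromBlocks h.toBlocks₁₁ 0 h.toBlocks₂₁
      (h.toBlocks₂₂ - h.toBlocks₂₁ * h.toBlocks₁₁⁻¹ * h.toBlocks₁₂) := by
    conv_lhs => rw [← fromBlocks_toBlocks h]
    simp only [v, fromBlocks_multiply, Matrix.mul_one, Matrix.mul_zero, add_zero, Matrix.mul_neg, ← Matrix.mul_assoc,
      Matrix.mul_nonsing_inv _ hBd, Matrix.one_mul, neg_add_cancel]
    rw [neg_add_eq_sub]
  obtain ⟨X, hX⟩ : ∃ X, cg lam h v = fromBlocks h.toBlocks₁₁ 0 X
      (h.toBlocks₂₂ - h.toBlocks₂₁ * h.toBlocks₁₁⁻¹ * h.toBlocks₁₂) := by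
    refine ⟨((-(h.toBlocks₁₁⁻¹ * h.toBlocks₁₂)).map lam).transpose * h.toBlocks₁₁ + h.toBlocks₂₁, ?_⟩
    rw [cg, Matrix.mul_assoc, hhv]
    simp [v, fromBlocks_map, fromBlocks_transpose, fromBlocks_multiply]
  have hX0 : X = 0 := by
    ext i j
    have := (herm.cg hlam v).apply (Sum.inr i) (Sum.inl j)
    rw [hX, fromBlocks_apply₁₂, fromBlocks_apply₂₁] at this
    simpa using this.symm
  subst hX0
  have hu := isUnit_cg lam hh hv
  rw [hX, Matrix.isUnit_iff_isUnit_det, det_fromBlocks_zero₂₁] at hu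
  refine ⟨v, hv, hX, (Matrix.isUnit_iff_isUnit_det _).mpr (isUnit_of_mul_isUnit_right hu), isHerm_of_apply fun i j => ?_⟩
  have := (herm.cg hlam v).apply (Sum.inr i) (Sum.inr j)
  rwa [hX, fromBlocks_apply₂₂, fromBlocks_apply₂₂] at this

theorem exists_notMem_row {h : Matrix ι ι A} (hh : IsUnit h) (i : ι) (M : Ideal A) [hM : M.IsMaximal] :
    ∃ j, h i j ∉ M := by
  by_contra hc
  push Not at hc
  refine hM.ne_top (Ideal.eq_top_of_isUnit_mem M (x := h.det) ?_ ((Matrix.isUnit_iff_isUnit_det h).mp hh))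
  rw [← Ideal.Quotient.eq_zero_iff_mem, RingHom.map_det]
  exact det_eq_zero_of_row_eq_zero i fun j => Ideal.Quotient.eq_zero_iff_mem.mpr (hc j)

/-- An alternating matrix of odd size over a field is singular. -/
theorem det_eq_zero_of_alt {k : Type v} [Field k] (hn : Odd (Fintype.card ι)) {M : Matrix ι ι k}
    (hskew : ∀ i j, M j i = -M i j) (hdiag : ∀ i, M i i = 0) : M.det = 0 := by
  by_cases h2 : (2 : k) = 0
  · haveI : CharP k 2 := CharTwo.of_one_ne_zero_of_two_eq_zero one_ne_zero h2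
    exact QFormLib.det_eq_zero_of_two hn (fun i j => by rw [hskew i j, CharTwo.neg_eq]) hdiag
  · have h1 : Mᵀ = -M := by ext i j; exact hskew i j
    have h3 := congrArg Matrix.det h1
    rw [det_transpose, det_neg, hn.neg_one_pow, neg_one_mul, ← sub_eq_zero, sub_neg_eq_add, ← two_mul] at h3
    exact (mul_eq_zero.mp h3).resolve_left h2

variable [IsLocalRing B] (hlam : Function.Involutive lam) (hB : RInv.IsFixedRing B A lam)

include hlam hB in
theorem diag_mem {ε : A} (hε : ε = 1 ∨ ε = -1) {h : Matrix ι ι A} (herm : IsHerm lam ε h) {i : ι}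
    (hni : ¬ IsUnit (h i i)) (M : Ideal A) [M.IsMaximal] : h i i ∈ M := by
  by_contra hmem
  refine hni (isUnit_of_notMem hlam hB M hmem fun h1 => hmem ?_)
  rw [← herm.apply i i]
  exact M.mul_mem_left _ h1

include hlam hB in
/-- Without unit values a hermitian form is alternating modulo the radical. -/
theorem degenerate {ε : A} (hε : ε = 1 ∨ ε = -1) {h : Matrix ι ι A} (hh : IsUnit h) (herm : IsHerm lam ε h)
    (hbad : ∀ u : Matrix ι ι A, IsUnit u → ∀ i, ¬ IsUnit (cg lam h u i i)) (i₀ : ι) :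
    IsLocalRing A ∧ (∀ a, lam a - a ∈ Ring.jacobson A) ∧ ε + 1 ∈ Ring.jacobson A ∧
      ¬ Odd (Fintype.card ι) := by
  haveI : Nontrivial A := ⟨⟨1, 0, fun h => one_ne_zero (hB.1 (by rw [map_one, map_zero, h]))⟩⟩
  have hd : ∀ u : Matrix ι ι A, IsUnit u → ∀ (i : ι) (M : Ideal A) [M.IsMaximal], cg lam h u i i ∈ M :=
    fun u hu i M _ => diag_mem hlam hB hε (herm.cg hlam u) (hbad u hu i) M
  have hd1 : ∀ (i : ι) (M : Ideal A) [M.IsMaximal], h i i ∈ M := fun i M _ => by
    simpa [cg_one] using hd 1 isUnit_one i M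
  have hoff : ∀ i j, i ≠ j → ∀ (a : A) (M : Ideal A) [M.IsMaximal], a * h i j + ε * lam (a * h i j) ∈ M := by
    intro i j hij a M _
    have hu : IsUnit (Matrix.transvection j i a) := by
      rw [Matrix.isUnit_iff_isUnit_det, det_transvection_of_ne j i hij.symm]; exact isUnit_one
    have h1 := hd _ hu i M
    have e : cg lam h (Matrix.transvection j i a) i i =
        h i i + (a * h i j + lam a * h j i) + lam a * a * h j j := by
      have hcol : ∀ k, (h * Matrix.transvection j i a) k i = h k i + a * h k j := fun k => by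
        rw [Matrix.mul_transvection_apply_same]
      rw [cg, Matrix.mul_assoc, Matrix.mul_apply]
      have hrow : ∀ k, ((Matrix.transvection j i a).map lam).transpose i k =
          (if k = i then 1 else 0) + if k = j then lam a else 0 := fun k => by
        simp only [transpose_apply, Matrix.map_apply, Matrix.transvection, Matrix.add_apply, map_add, Matrix.one_apply,
          Matrix.single_apply, apply_ite lam, map_one, map_zero, and_true, eq_comm]
      simp only [hrow, hcol, add_mul, ite_mul, one_mul, zero_mul, Finset.sum_add_distrib, Finset.sum_ite_eq',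
        Finset.mem_univ, if_true]
      ring
    rw [e, ← herm.apply j i, ← mul_assoc] at h1
    rw [map_mul, ← mul_assoc, mul_comm ε (lam a)]
    have h2 := M.sub_mem (M.sub_mem h1 (hd1 i M)) (M.mul_mem_left (lam a * a) (hd1 j M))
    rw [show a * h i j + lam a * ε * lam (h i j) =
      h i i + (a * h i j + lam a * ε * lam (h i j)) + lam a * a * h j j - h i i - lam a * a * h j j by ring]
    exact h2
  obtain ⟨M, hM⟩ := Ideal.exists_maximal A
  obtain ⟨j₀, hg⟩ := exists_notMem_row hh i₀ M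
  have hij : i₀ ≠ j₀ := fun e => hg (e ▸ hd1 i₀ M)
  have hfix : M.comap (lam : A →+* A) = M := by
    haveI := Ideal.comap_isMaximal_of_surjective (K := M) (lam : A →+* A) lam.surjective
    by_contra hne
    obtain ⟨a, ha, hna⟩ : ∃ a, a ∈ M.comap (lam : A →+* A) ∧ a ∉ M := by
      by_contra hc
      push Not at hc
      exact hne (Ideal.IsMaximal.eq_of_le inferInstance hM.ne_top hc)
    have h1 := hoff i₀ j₀ hij a M
    rw [map_mul] at h1
    have h2 : ε * (lam a * lam (h i₀ j₀)) ∈ M := M.mul_mem_left _ (M.mul_mem_right _ ha)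
    have h3 : a * h i₀ j₀ ∈ M := by simpa using M.sub_mem h1 h2
    exact (hM.isPrime.mem_or_mem h3).elim hna hg
  have huniq : ∀ M' : Ideal A, M'.IsMaximal → M' = M := fun M' hM' => by
    haveI : M'.IsMaximal := hM'
    rcases eq_or_eq_comap hlam hB (q := M') (q' := M) (by rw [isMaximal_comap hlam hB M', isMaximal_comap hlam hB M])
      with e | e
    · exact e
    · exact e.trans hfix
  haveI hloc : IsLocalRing A := IsLocalRing.of_unique_max_ideal ⟨M, hM, huniq⟩
  have hjac : ∀ x, x ∈ M → x ∈ Ring.jacobson A := fun x hx => mem_jacobson_of_forall fun M' hM' => huniq M' hM' ▸ hx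
  have hgu : IsUnit (h i₀ j₀) := by
    by_contra hne
    obtain ⟨M', hM', hmem⟩ := exists_max_ideal_of_mem_nonunits hne
    exact hg (huniq M' hM' ▸ hmem)
  obtain ⟨gi, hgi⟩ := hgu.exists_left_inv
  have hall : ∀ a, a + ε * lam a ∈ M := fun a => by
    have := hoff i₀ j₀ hij (a * gi) M
    rwa [mul_assoc, hgi, mul_one] at this
  have hε1 : ε + 1 ∈ M := by simpa [add_comm] using hall 1
  have htriv : ∀ a, lam a - a ∈ M := fun a => by
    have h1 := M.sub_mem (hall a) (M.mul_mem_left (lam a) hε1)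
    rw [show a + ε * lam a - lam a * (ε + 1) = -(lam a - a) by ring, Ideal.neg_mem_iff] at h1
    exact h1
  refine ⟨hloc, fun a => hjac _ (htriv a), hjac _ hε1, fun hodd => ?_⟩
  letI := Ideal.Quotient.field M
  have hdet : (h.map (Ideal.Quotient.mk M)).det = 0 := by
    refine det_eq_zero_of_alt hodd (fun i j => ?_) fun i => Ideal.Quotient.eq_zero_iff_mem.mpr (hd1 i M)
    rw [Matrix.map_apply, Matrix.map_apply, ← map_neg, Ideal.Quotient.eq, ← herm.apply j i,
      show ε * lam (h i j) - -h i j = (ε + 1) * lam (h i j) - (lam (h i j) - h i j) by ring]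
    exact M.sub_mem (M.mul_mem_right _ hε1) (htriv _)
  rw [← RingHom.mapMatrix_apply, ← RingHom.map_det, Ideal.Quotient.eq_zero_iff_mem] at hdet
  exact hM.ne_top (Ideal.eq_top_of_isUnit_mem M hdet ((Matrix.isUnit_iff_isUnit_det h).mp hh))

omit [Fintype κ] [DecidableEq κ] in
include hlam hB in
/-- Some congruent form with a unit entry on the diagonal leaves a complement with the same property. -/
theorem exists_good_split {ε : A} (hε : ε = 1 ∨ ε = -1) {h : Matrix ι ι A} (hh : IsUnit h) (herm : IsHerm lam ε h)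
    {i : ι} (hi : IsUnit (h i i)) :
    ∃ v : Matrix ι ι A, IsUnit v ∧ IsUnit (cg lam h v i i) ∧ (∀ j, j ≠ i → cg lam h v i j = 0) ∧
      ((∀ j, j = i) ∨ ∃ u : Matrix {j // j ≠ i} {j // j ≠ i} A, IsUnit u ∧
        ∃ j, IsUnit (cg lam ((cg lam h v).submatrix Subtype.val Subtype.val) u j j)) := by
  let e : {j // j = i} ⊕ {j // j ≠ i} ≃ ι := Equiv.sumCompl fun j => j = i
  have hclear : ∀ k : Matrix ι ι A, IsUnit k → IsHerm lam ε k → IsUnit (k i i) →
      ∃ v, IsUnit v ∧ cg lam k v i i = k i i ∧ (∀ j, j ≠ i → cg lam k v i j = 0) ∧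
        ∀ j l : {j // j ≠ i}, k i i * cg lam k v j l = k i i * k j l - k j i * k i l := by
    intro k hk hkh hki
    letI : Unique {j // j = i} := ⟨⟨⟨i, rfl⟩⟩, fun x => Subtype.ext x.2⟩
    have hB1 : IsUnit (k.submatrix e e).toBlocks₁₁ := by
      rw [Matrix.isUnit_iff_isUnit_det, det_unique]; exact hki
    obtain ⟨v, hv, hvb, -, -⟩ := exists_clear hlam (isUnit_submatrix hk e)
      (isHerm_of_apply fun a b => hkh.apply (e a) (e b)) hB1
    refine ⟨v.submatrix e.symm e.symm, isUnit_submatrix hv e.symm, ?_, fun j hj => ?_, fun j l => ?_⟩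
    all_goals rw [cg_submatrix_symm, hvb, submatrix_apply]
    · rw [show e.symm i = Sum.inl ⟨i, rfl⟩ from (Equiv.symm_apply_eq e).mpr rfl, fromBlocks_apply₁₁]
      rfl
    · rw [show e.symm i = Sum.inl ⟨i, rfl⟩ from (Equiv.symm_apply_eq e).mpr rfl,
        show e.symm j = Sum.inr ⟨j, hj⟩ from (Equiv.symm_apply_eq e).mpr rfl, fromBlocks_apply₁₂]
      rfl
    · rw [show e.symm j.1 = Sum.inr j from (Equiv.symm_apply_eq e).mpr rfl,
        show e.symm l.1 = Sum.inr l from (Equiv.symm_apply_eq e).mpr rfl, fromBlocks_apply₂₂, Matrix.sub_apply,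
        Matrix.mul_apply]
      simp only [Matrix.mul_apply, Finset.univ_unique, Finset.sum_singleton]
      have hinv : (k.submatrix e e).toBlocks₁₁ default default * (k.submatrix e e).toBlocks₁₁⁻¹ default default = 1 := by
        have := congrFun (congrFun (Matrix.mul_nonsing_inv _ ((Matrix.isUnit_iff_isUnit_det _).mp hB1)) default) default
        simpa [Matrix.mul_apply] using this
      show k i i * (k j l - _) = _
      change k i i * (k.submatrix e e).toBlocks₁₁⁻¹ default default = 1 at hinv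
      change k i i * (k j l - k j i * _ * k i l) = _
      linear_combination (-(k j i * k i l)) * hinv
  obtain ⟨v, hv, hvi, hvz, -⟩ := hclear h hh herm hi
  by_cases hgood : (∀ j, j = i) ∨ ∃ u : Matrix {j // j ≠ i} {j // j ≠ i} A, IsUnit u ∧
      ∃ j, IsUnit (cg lam ((cg lam h v).submatrix Subtype.val Subtype.val) u j j)
  · exact ⟨v, hv, hvi ▸ hi, hvz, hgood⟩
  push Not at hgood
  obtain ⟨⟨j₁, hj₁⟩, hbad⟩ := hgood
  obtain ⟨H, hH⟩ : ∃ H, H = cg lam h v := ⟨_, rfl⟩
  have hHu : IsUnit H := hH ▸ isUnit_cg lam hh hv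
  have hHh : IsHerm lam ε H := hH ▸ herm.cg hlam v
  have hHi : IsUnit (H i i) := by rw [hH, hvi]; exact hi
  have hHz : ∀ j, j ≠ i → H i j = 0 := hH ▸ hvz
  rw [← hH] at hbad
  have hHz' : ∀ j, j ≠ i → H j i = 0 := fun j hj => by rw [← hHh.apply j i, hHz j hj, map_zero, mul_zero]
  have hblock : H.submatrix e e = fromBlocks (H.submatrix e e).toBlocks₁₁ 0 0 (H.submatrix e e).toBlocks₂₂ := by
    conv_lhs => rw [← fromBlocks_toBlocks (H.submatrix e e)]
    congr 1
    · ext a b; exact (congrArg (fun x => H x b.1) a.2).trans (hHz b.1 b.2)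
    · ext a b; exact (congrArg (fun x => H a.1 x) b.2).trans (hHz' a.1 a.2)
  have hH'u : IsUnit (H.submatrix (Subtype.val : {j // j ≠ i} → ι) (Subtype.val : {j // j ≠ i} → ι)) := by
    have := isUnit_submatrix hHu e
    rw [hblock, Matrix.isUnit_iff_isUnit_det, det_fromBlocks_zero₂₁] at this
    exact (Matrix.isUnit_iff_isUnit_det _).mpr (isUnit_of_mul_isUnit_right this)
  have hH'h : IsHerm lam ε (H.submatrix (Subtype.val : {j // j ≠ i} → ι) (Subtype.val : {j // j ≠ i} → ι)) :=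
    isHerm_of_apply fun a b => hHh.apply a.1 b.1
  obtain ⟨hloc, -, -, -⟩ := degenerate hlam hB hε hH'u hH'h hbad ⟨j₁, hj₁⟩
  haveI := hloc
  have hd : ∀ j, j ≠ i → H j j ∈ IsLocalRing.maximalIdeal A := fun j hj => by
    have := diag_mem hlam hB hε hH'h (i := ⟨j, hj⟩) (by simpa [cg_one] using hbad 1 isUnit_one ⟨j, hj⟩)
      (IsLocalRing.maximalIdeal A)
    exact this
  obtain ⟨⟨j₂, hj₂⟩, hg⟩ := exists_notMem_row hH'u ⟨j₁, hj₁⟩ (IsLocalRing.maximalIdeal A)
  change H j₁ j₂ ∉ _ at hg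
  rw [IsLocalRing.notMem_maximalIdeal] at hg
  have hne : j₂ ≠ j₁ := fun e => IsLocalRing.notMem_maximalIdeal.mpr hg (e ▸ hd j₁ hj₁)
  obtain ⟨u₁, hu₁⟩ : ∃ u, u = Matrix.transvection j₁ i (1 : A) := ⟨_, rfl⟩
  have hu₁u : IsUnit u₁ := by
    rw [hu₁, Matrix.isUnit_iff_isUnit_det, det_transvection_of_ne j₁ i hj₁]; exact isUnit_one
  have hcol : ∀ k l, (H * u₁) k l = H k l + if l = i then H k j₁ else 0 := fun k l => by
    rw [hu₁]
    by_cases hl : l = i
    · subst hl; rw [if_pos rfl, Matrix.mul_transvection_apply_same, one_mul]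
    · rw [if_neg hl, add_zero, Matrix.mul_transvection_apply_of_ne j₁ i k l hl]
  have hrow : ∀ k l, cg lam H u₁ k l = (H * u₁) k l + if k = i then (H * u₁) j₁ l else 0 := fun k l => by
    rw [cg, Matrix.mul_assoc, Matrix.mul_apply]
    have : ∀ x, (u₁.map lam).transpose k x = (if x = k then 1 else 0) + if k = i then (if x = j₁ then 1 else 0) else 0 := by
      intro x
      simp only [hu₁, transpose_apply, Matrix.map_apply, Matrix.transvection, Matrix.add_apply, map_add, Matrix.one_apply,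
        Matrix.single_apply, apply_ite lam, map_one, map_zero]
      by_cases hk : k = i
      · subst hk; simp [eq_comm]
      · simp [hk, Ne.symm hk]
    simp only [this, add_mul, ite_mul, one_mul, zero_mul, Finset.sum_add_distrib, Finset.sum_ite_eq', Finset.mem_univ,
      if_true]
    split_ifs <;> simp
  obtain ⟨H1, hH1⟩ : ∃ H1, H1 = cg lam H u₁ := ⟨_, rfl⟩
  have e00 : H1 i i = H i i + H j₁ j₁ := by
    rw [hH1, hrow, if_pos rfl, hcol, hcol, if_pos rfl, if_pos rfl, hHz j₁ hj₁, hHz' j₁ hj₁]; ring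
  have e0j : ∀ l, l ≠ i → H1 i l = H j₁ l := fun l hl => by
    rw [hH1, hrow, if_pos rfl, hcol, hcol, if_neg hl, if_neg hl, hHz l hl]; ring
  have ejj : ∀ k l, k ≠ i → l ≠ i → H1 k l = H k l := fun k l hk hl => by
    rw [hH1, hrow, if_neg hk, hcol, if_neg hl]; ring
  have hH1h : IsHerm lam ε H1 := hH1 ▸ hHh.cg hlam u₁
  have h00 : IsUnit (H1 i i) := by
    rw [e00]
    exact IsLocalRing.notMem_maximalIdeal.mp fun hm =>
      IsLocalRing.notMem_maximalIdeal.mpr hHi (by simpa using Ideal.sub_mem _ hm (hd j₁ hj₁))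
  obtain ⟨v₂, hv₂, hv₂i, hv₂z, hv₂k⟩ := hclear H1 (hH1 ▸ isUnit_cg lam hHu hu₁u) hH1h h00
  refine ⟨v * (u₁ * v₂), hv.mul (hu₁u.mul hv₂), ?_, fun j hj => ?_, Or.inr ⟨1, isUnit_one, ⟨j₂, hj₂⟩, ?_⟩⟩
  · rw [cg_mul, ← hH, cg_mul, ← hH1, hv₂i]; exact h00
  · rw [cg_mul, ← hH, cg_mul, ← hH1]; exact hv₂z j hj
  · rw [cg_one, submatrix_apply, cg_mul, ← hH, cg_mul, ← hH1]
    refine isUnit_of_mul_isUnit_right (x := H1 i i) ?_
    rw [hv₂k ⟨j₂, hj₂⟩ ⟨j₂, hj₂⟩, ejj _ _ hj₂ hj₂, e0j _ hj₂, ← hH1h.apply j₂ i, e0j _ hj₂]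
    refine IsLocalRing.notMem_maximalIdeal.mp fun hm => ?_
    have h1 := Ideal.sub_mem _ (Ideal.mul_mem_left _ (H1 i i) (hd j₂ hj₂)) hm
    rw [sub_sub_cancel] at h1
    have hεu : IsUnit ε := by rcases hε with rfl | rfl; exacts [isUnit_one, isUnit_one.neg]
    exact IsLocalRing.notMem_maximalIdeal.mpr ((hεu.mul (hg.map lam)).mul hg) h1

include hlam hB in
/-- Forms with unit values are diagonalisable. -/
theorem exists_diagonal_of_good {ε : A} (hε : ε = 1 ∨ ε = -1) (N : ℕ) :
    ∀ (ι : Type w) [Fintype ι] [DecidableEq ι] (h : Matrix ι ι A), Fintype.card ι ≤ N → IsUnit h → IsHerm lam ε h →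
      (IsEmpty ι ∨ ∃ u : Matrix ι ι A, IsUnit u ∧ ∃ j, IsUnit (cg lam h u j j)) →
      ∃ v, IsUnit v ∧ ∃ d : ι → A, cg lam h v = diagonal d := by
  induction N with
  | zero =>
    intro ι _ _ h hN _ _ _
    haveI : IsEmpty ι := Fintype.card_eq_zero_iff.mp (Nat.le_zero.mp hN)
    exact ⟨1, isUnit_one, isEmptyElim, Subsingleton.elim _ _⟩
  | succ N ih =>
    intro ι _ _ h hN hh herm hgood
    rcases hgood with hem | ⟨u, hu, i, hi⟩
    · exact ⟨1, isUnit_one, isEmptyElim, Subsingleton.elim _ _⟩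
    obtain ⟨v, hv, hvi, hvz, hrest⟩ := exists_good_split hlam hB hε (isUnit_cg lam hh hu) (herm.cg hlam u) hi
    obtain ⟨H, hH⟩ : ∃ H, H = cg lam (cg lam h u) v := ⟨_, rfl⟩
    rw [← hH] at hrest hvi hvz
    have hHh : IsHerm lam ε H := hH ▸ (herm.cg hlam u).cg hlam v
    have hHu : IsUnit H := hH ▸ isUnit_cg lam (isUnit_cg lam hh hu) hv
    have hvz' : ∀ j, j ≠ i → H j i = 0 := fun j hj => by rw [← hHh.apply j i, hvz j hj, map_zero, mul_zero]
    let e : {j // j = i} ⊕ {j // j ≠ i} ≃ ι := Equiv.sumCompl fun j => j = i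
    have hblock : H.submatrix e e = fromBlocks (H.submatrix e e).toBlocks₁₁ 0 0 (H.submatrix e e).toBlocks₂₂ := by
      conv_lhs => rw [← fromBlocks_toBlocks (H.submatrix e e)]
      congr 1
      · ext a b; exact (congrArg (fun x => H x b.1) a.2).trans (hvz b.1 b.2)
      · ext a b; exact (congrArg (fun x => H a.1 x) b.2).trans (hvz' a.1 a.2)
    have hH'u : IsUnit (H.submatrix e e).toBlocks₂₂ := by
      have := isUnit_submatrix hHu e
      rw [hblock, Matrix.isUnit_iff_isUnit_det, det_fromBlocks_zero₂₁] at this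
      exact (Matrix.isUnit_iff_isUnit_det _).mpr (isUnit_of_mul_isUnit_right this)
    have hcard : Fintype.card {j // j ≠ i} ≤ N := by
      have := Fintype.card_subtype_lt (p := fun j => j ≠ i) (x := i) (by simp)
      omega
    obtain ⟨v', hv', d', hd'⟩ := ih {j // j ≠ i} (H.submatrix e e).toBlocks₂₂ hcard hH'u
      (isHerm_of_apply fun a b => hHh.apply a.1 b.1)
      (hrest.imp (fun h => ⟨fun x => x.2 (h x.1)⟩) id)
    have hb1 : (H.submatrix e e).toBlocks₁₁ = diagonal fun _ => H i i := by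
      ext a b
      obtain ⟨a, rfl⟩ := a
      obtain ⟨b, hb⟩ := b
      subst hb
      simp [Matrix.toBlocks₁₁, e]
    refine ⟨u * (v * (fromBlocks 1 0 0 v').submatrix e.symm e.symm),
      hu.mul (hv.mul (isUnit_submatrix (isUnit_blocks isUnit_one hv') e.symm)),
      Sum.elim (fun _ => H i i) d' ∘ e.symm, ?_⟩
    rw [cg_mul, cg_mul, ← hH, cg_submatrix_symm, hblock, cg_blocks, cg_one, hd', hb1, fromBlocks_diagonal,
      submatrix_diagonal_equiv]

include hlam hB in
theorem exists_diagonal {ε : A} (hε : ε = 1 ∨ ε = -1) (h : Matrix ι ι A) (hh : IsUnit h) (herm : IsHerm lam ε h)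
    (hcase : (∃ a, lam a - a ∉ Ring.jacobson A) ∨ ε + 1 ∉ Ring.jacobson A ∨ Odd (Fintype.card ι)) :
    ∃ v, IsUnit v ∧ ∃ d : ι → A, cg lam h v = diagonal d := by
  refine exists_diagonal_of_good hlam hB hε (Fintype.card ι) ι h le_rfl hh herm ?_
  by_contra hc
  rw [not_or] at hc
  push Not at hc
  obtain ⟨i₀⟩ := hc.1
  obtain ⟨-, h1, h2, h3⟩ := degenerate hlam hB hε hh herm hc.2 i₀
  rcases hcase with ⟨a, ha⟩ | hc | hc
  · exact ha (h1 a)
  · exact hc h2
  · exact h3 hc

end Groth.Agent.RInvLib
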