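import Groth.Agent.RInvLib.Basic
import Mathlib.RingTheory.Unramified.Field
import Mathlib.RingTheory.LocalRing.Quotient
import Mathlib.RingTheory.LocalRing.Module
import Mathlib.RingTheory.Artinian.Ring
import Mathlib.RingTheory.Jacobson.Radical

/-! Quadratic étale algebras over local rings. -/

namespace Groth.Agent.RInvLib

open Polynomial IsLocalRing

universe u v

variable {S : Type u} {R : Type v} [CommRing S] [CommRing R] [Algebra S R] [IsLocalRing S]

attribute [local instance] Ideal.Quotient.field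

/-- The facts on the closed fibre of a quadratic étale algebra. -/
theorem fibre_facts (hq : RInv.IsQuadEtale S R) :
    Module.Finite S R ∧ Module.Finite (S ⧸ maximalIdeal S) (R ⧸ (maximalIdeal S).map (algebraMap S R)) ∧
      Algebra.FormallyUnramified (S ⧸ maximalIdeal S) (R ⧸ (maximalIdeal S).map (algebraMap S R)) ∧
      Module.finrank (S ⧸ maximalIdeal S) (R ⧸ (maximalIdeal S).map (algebraMap S R)) = 2 ∧
      IsReduced (R ⧸ (maximalIdeal S).map (algebraMap S R)) := by
  obtain ⟨hfin, hproj, hunr, hrk⟩ := hq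
  haveI := hfin
  haveI := hproj
  haveI := hunr
  haveI : Module.Free S R := Module.free_of_flat_of_isLocalRing
  haveI h1 : Module.Finite (S ⧸ maximalIdeal S) (R ⧸ (maximalIdeal S).map (algebraMap S R)) :=
    Module.Finite.of_restrictScalars_finite S _ _
  haveI : Algebra.FormallyUnramified S (R ⧸ (maximalIdeal S).map (algebraMap S R)) :=
    Algebra.FormallyUnramified.of_surjective (IsScalarTower.toAlgHom S R _) Ideal.Quotient.mk_surjective
  haveI h2 : Algebra.FormallyUnramified (S ⧸ maximalIdeal S) (R ⧸ (maximalIdeal S).map (algebraMap S R)) :=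
    Algebra.FormallyUnramified.of_restrictScalars S _ _
  refine ⟨hfin, h1, h2, ?_, Algebra.FormallyUnramified.isReduced_of_field (S ⧸ maximalIdeal S) _⟩
  rw [finrank_quotient_map]
  have := hrk ⟨maximalIdeal S, inferInstance⟩
  rwa [Module.rankAtStalk_eq_finrank_of_free, Pi.natCast_apply, Nat.cast_id] at this

theorem mem_jacobson_of_forall {x : R} (h : ∀ M : Ideal R, M.IsMaximal → x ∈ M) : x ∈ Ring.jacobson R := by
  rw [Ring.jacobson_eq_sInf_isMaximal, Ideal.mem_sInf]; exact fun {M} hM => h M hM

theorem mem_of_mem_jacobson {x : R} (hx : x ∈ Ring.jacobson R) (M : Ideal R) [hM : M.IsMaximal] : x ∈ M := by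
  rw [Ring.jacobson_eq_sInf_isMaximal, Ideal.mem_sInf] at hx
  exact hx hM

/-- The Jacobson radical of a quadratic étale algebra. -/
theorem jacobson_eq_map (hq : RInv.IsQuadEtale S R) :
    Ring.jacobson R = (maximalIdeal S).map (algebraMap S R) := by
  obtain ⟨hfin, hfin', -, -, hred⟩ := fibre_facts hq
  haveI := hfin
  haveI := hfin'
  haveI := hred
  haveI : IsArtinianRing (R ⧸ (maximalIdeal S).map (algebraMap S R)) :=
    IsArtinianRing.of_finite (S ⧸ maximalIdeal S) _
  refine le_antisymm (fun x hx => ?_) fun x hx => mem_jacobson_of_forall fun M hM => ?_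
  · rw [← Ideal.Quotient.eq_zero_iff_mem]
    refine IsReduced.eq_zero _ (show _ ∈ nilradical (R ⧸ (maximalIdeal S).map (algebraMap S R)) from ?_)
    rw [nilradical, ← IsArtinianRing.jacobson_eq_radical, Ideal.jacobson, Ideal.mem_sInf]
    rintro M' ⟨-, hM'⟩
    haveI : M'.IsMaximal := hM'
    haveI := Ideal.comap_isMaximal_of_surjective (K := M') (Ideal.Quotient.mk ((maximalIdeal S).map (algebraMap S R)))
      Ideal.Quotient.mk_surjective
    exact mem_of_mem_jacobson hx (M'.comap (Ideal.Quotient.mk _))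
  · haveI := Ideal.isMaximal_comap_of_isIntegral_of_isMaximal (R := S) M
    exact Ideal.map_le_iff_le_comap.mpr (eq_maximalIdeal this).ge hx

variable {lam : R ≃+* R}

theorem isLocalRing_of_forall (hlam : Function.Involutive lam) (hS : RInv.IsFixedRing S R lam)
    (h : ∀ r, lam r - r ∈ Ring.jacobson R) : IsLocalRing R := by
  obtain ⟨M, hM, hMp⟩ := exists_over hlam hS (maximalIdeal S)
  haveI := isIntegral hlam hS
  haveI hMmax : M.IsMaximal := Ideal.isMaximal_of_isIntegral_of_isMaximal_comap (R := S) M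
    (by rw [hMp]; infer_instance)
  refine IsLocalRing.of_unique_max_ideal ⟨M, hMmax, fun M' hM' => ?_⟩
  haveI : M'.IsMaximal := hM'
  rcases eq_or_eq_comap hlam hS (q := M') (q' := M) (by rw [isMaximal_comap hlam hS M', hMp]) with e | e
  · exact e
  · rw [e, comap_lam_of_forall fun r => mem_of_mem_jacobson (h r) M]

theorem not_isQuadEtale_of_forall (hlam : Function.Involutive lam) (hS : RInv.IsFixedRing S R lam)
    (h : ∀ r, lam r - r ∈ Ring.jacobson R) : ¬ RInv.IsQuadEtale S R := by
  intro hq
  haveI := isLocalRing_of_forall hlam hS h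
  have hj := jacobson_eq_map hq
  obtain ⟨hfin, hfin', hunr, hrk, hred⟩ := fibre_facts hq
  haveI := hfin
  haveI := hfin'
  haveI := hunr
  haveI := hred
  haveI : IsArtinianRing (R ⧸ (maximalIdeal S).map (algebraMap S R)) :=
    IsArtinianRing.of_finite (S ⧸ maximalIdeal S) _
  haveI : Nontrivial (R ⧸ (maximalIdeal S).map (algebraMap S R)) := Module.nontrivial_of_finrank_eq_succ (n := 1) hrk
  haveI : IsLocalRing (R ⧸ (maximalIdeal S).map (algebraMap S R)) :=
    IsLocalRing.of_surjective' _ Ideal.Quotient.mk_surjective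
  letI := (IsArtinianRing.isField_of_isReduced_of_isLocalRing (R ⧸ (maximalIdeal S).map (algebraMap S R))).toField
  haveI : Algebra.IsSeparable (S ⧸ maximalIdeal S) (R ⧸ (maximalIdeal S).map (algebraMap S R)) :=
    Algebra.FormallyUnramified.isSeparable _ _
  obtain ⟨x, hx⟩ : ∃ x, x ∉ (algebraMap (S ⧸ maximalIdeal S) (R ⧸ (maximalIdeal S).map (algebraMap S R))).range := by
    by_contra hc
    push Not at hc
    have hsurj : Function.Surjective (Algebra.linearMap (S ⧸ maximalIdeal S) (R ⧸ (maximalIdeal S).map (algebraMap S R))) :=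
      fun y => hc y
    have := LinearMap.finrank_le_finrank_of_surjective hsurj
    rw [hrk, Module.finrank_self] at this
    omega
  obtain ⟨r, rfl⟩ := Ideal.Quotient.mk_surjective x
  obtain ⟨t, ht⟩ := exists_trace hlam hS r
  obtain ⟨N, hN⟩ := exists_norm hlam hS r
  set mk := Ideal.Quotient.mk ((maximalIdeal S).map (algebraMap S R)) with hmk
  set k := S ⧸ maximalIdeal S
  let f : k[X] := X ^ 2 + (C (-Ideal.Quotient.mk _ t) * X + C (Ideal.Quotient.mk _ N))
  have hfm : f.Monic := monic_X_pow_add (degree_linear_le.trans_lt (by norm_num))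
  have hf : aeval (mk r) f = 0 := by
    simp only [f, map_add, map_mul, map_pow, aeval_X, aeval_C, map_neg]
    show mk r ^ 2 + (-(mk (algebraMap S R t)) * mk r + mk (algebraMap S R N)) = 0
    rw [← map_pow, ← map_neg, ← map_mul, ← map_add, ← map_add, ht, hN,
      show r ^ 2 + (-(r + lam r) * r + r * lam r) = 0 by ring, map_zero]
  have hint : IsIntegral k (mk r) := ⟨f, hfm, hf⟩
  have hdeg : f.natDegree = 2 := by
    simp only [f]
    compute_degree!
  have hmin : f = minpoly k (mk r) := by
    refine Polynomial.eq_of_monic_of_dvd_of_natDegree_le (minpoly.monic hint) hfm (minpoly.dvd k _ hf) ?_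
    rw [hdeg]
    exact (minpoly.two_le_natDegree_iff hint).mpr hx
  have hsep : (minpoly k (mk r)).Separable := Algebra.IsSeparable.isSeparable k (mk r)
  refine hsep.aeval_derivative_ne_zero (by exact minpoly.aeval k (mk r)) ?_
  rw [← hmin]
  simp only [f, derivative_add, derivative_pow, derivative_X, derivative_mul, derivative_C, map_add, map_mul, map_pow,
    aeval_X, aeval_C, map_neg, map_natCast, map_one, map_zero, mul_one, zero_mul, zero_add, add_zero]
  show ((2 : ℕ) : R ⧸ (maximalIdeal S).map (algebraMap S R)) * mk r ^ (2 - 1) + (-0 * mk r + -(mk (algebraMap S R t))) = 0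
  rw [neg_zero, zero_mul, zero_add]
  rw [show ((2 : ℕ) : R ⧸ (maximalIdeal S).map (algebraMap S R)) = mk 2 from (map_ofNat mk 2).symm]
  simp only [Nat.reduceSub, pow_one]
  rw [← map_mul, ← map_neg, ← map_add, hmk, Ideal.Quotient.eq_zero_iff_mem, ← hj, ht,
    show 2 * r + -(r + lam r) = -(lam r - r) by ring]
  exact (Ring.jacobson R).neg_mem (h r)

theorem exists_isUnit_sub (hlam : Function.Involutive lam) (hS : RInv.IsFixedRing S R lam)
    (hq : RInv.IsQuadEtale S R) : ∃ r, IsUnit (r - lam r) := by
  by_contra hc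
  refine not_isQuadEtale_of_forall hlam hS (fun r => ?_) hq
  by_contra hr
  exact hc ⟨r, exists_isUnit_sub_of_notMem_jacobson hlam hS hr⟩

/-- A unit of norm one is a quotient of a unit and its conjugate. -/
theorem exists_hilbert90 (hlam : Function.Involutive lam) (hS : RInv.IsFixedRing S R lam)
    (hq : RInv.IsQuadEtale S R) (r : Rˣ) (hr : lam r * r = 1) : ∃ a : Rˣ, (r : R) = (a⁻¹ : Rˣ) * lam a := by
  obtain ⟨s, hs⟩ := exists_isUnit_sub hlam hS hq
  haveI : Nontrivial R := ⟨⟨1, 0, fun h => one_ne_zero (hS.1 (by rw [map_one, map_zero, h]))⟩⟩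
  obtain ⟨M, hM⟩ := Ideal.exists_maximal R
  have hlr : IsUnit (lam (r : R)) := IsUnit.of_mul_eq_one _ hr
  obtain ⟨x, hx⟩ : ∃ x, x + lam r * lam x ∉ M := by
    by_contra hc
    push Not at hc
    have h1 : (s + lam r * lam s) - s * (1 + lam (r : R) * lam 1) ∈ M := M.sub_mem (hc s) (M.mul_mem_left _ (hc 1))
    rw [map_one, show (s + lam (r : R) * lam s) - s * (1 + lam (r : R) * 1) = -(lam r * (s - lam s)) by ring,
      Ideal.neg_mem_iff] at h1
    exact hM.ne_top (Ideal.eq_top_of_isUnit_mem M h1 (hlr.mul hs))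
  have hla : lam (x + lam r * lam x) = r * (x + lam r * lam x) := by
    rw [map_add, map_mul, hlam, hlam, mul_add]
    linear_combination (-lam x) * hr
  have ha : IsUnit (x + lam r * lam x) := isUnit_of_notMem hlam hS M hx fun h1 => by
    rw [hla] at h1
    exact hx ((Ideal.unit_mul_mem_iff_mem M r.isUnit).mp h1)
  refine ⟨ha.unit, ?_⟩
  rw [IsUnit.unit_spec, hla, mul_comm (r : R), ← mul_assoc, IsUnit.val_inv_mul, one_mul]

theorem jacobson_sq_le (hlam : Function.Involutive lam) (hS : RInv.IsFixedRing S R lam) (h2 : IsUnit (2 : S)) :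
    Ring.jacobson R ^ 2 ≤ (maximalIdeal S).map (algebraMap S R) := by
  haveI := isIntegral hlam hS
  obtain ⟨i, hi⟩ := h2.exists_left_inv
  have hfix : ∀ s : S, algebraMap S R s ∈ Ring.jacobson R → s ∈ maximalIdeal S := fun s hs => by
    obtain ⟨M, hM, hMp⟩ := exists_over hlam hS (maximalIdeal S)
    haveI hMmax : M.IsMaximal := Ideal.isMaximal_of_isIntegral_of_isMaximal_comap (R := S) M
      (by rw [hMp]; infer_instance)
    rw [← hMp]
    exact mem_of_mem_jacobson hs M
  have hlj : ∀ x, x ∈ Ring.jacobson R → lam x ∈ Ring.jacobson R := fun x hx => mem_jacobson_of_forall fun M hM => by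
    haveI := Ideal.comap_isMaximal_of_surjective (K := M) (lam : R →+* R) lam.surjective
    exact mem_of_mem_jacobson hx (M.comap (lam : R →+* R))
  rw [pow_two, Ideal.mul_le]
  intro x hx y hy
  have hplus : ∀ z, z ∈ Ring.jacobson R → ∃ a ∈ maximalIdeal S, algebraMap S R a = algebraMap S R i * (z + lam z) :=
    fun z hz => by
      obtain ⟨t, ht⟩ := exists_trace hlam hS z
      refine ⟨i * t, Ideal.mul_mem_left _ _ (hfix t ?_), by rw [map_mul, ht]⟩
      rw [ht]; exact (Ring.jacobson R).add_mem hz (hlj z hz)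
  obtain ⟨a, ha, hax⟩ := hplus x hx
  obtain ⟨b, hb, hby⟩ := hplus y hy
  obtain ⟨c, hc⟩ := (hS.2 ((x - algebraMap S R a) * (y - algebraMap S R b))).mp (by
    rw [map_mul, map_sub, map_sub, lam_algebraMap hS, lam_algebraMap hS]
    have h2' : algebraMap S R i * 2 = 1 := by rw [← map_ofNat (algebraMap S R) 2, ← map_mul, hi, map_one]
    rw [hax, hby]
    linear_combination (x * y - lam x * lam y) * h2')
  have hcm : c ∈ maximalIdeal S := hfix c (by
    rw [hc]
    exact (Ring.jacobson R).mul_mem_right _ ((Ring.jacobson R).sub_mem hx (mem_jacobson_of_forall fun M hM => by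
      haveI := Ideal.isMaximal_comap_of_isIntegral_of_isMaximal (R := S) M
      exact (eq_maximalIdeal this).ge ha)))
  rw [show x * y = algebraMap S R c + algebraMap S R a * y + algebraMap S R b * (x - algebraMap S R a) by
    rw [hc]; ring]
  exact Ideal.add_mem _ (Ideal.add_mem _ (Ideal.mem_map_of_mem _ hcm) (Ideal.mul_mem_right _ _ (Ideal.mem_map_of_mem _ ha)))
    (Ideal.mul_mem_right _ _ (Ideal.mem_map_of_mem _ hb))

/-- The closed fibre of a quadratic étale algebra. -/
theorem fibre_structure (hq : RInv.IsQuadEtale S R) :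
    (IsField (R ⧸ (maximalIdeal S).map (algebraMap S R)) ∧
      Module.finrank (S ⧸ maximalIdeal S) (R ⧸ (maximalIdeal S).map (algebraMap S R)) = 2 ∧
      Algebra.IsSeparable (S ⧸ maximalIdeal S) (R ⧸ (maximalIdeal S).map (algebraMap S R))) ∨
    Nonempty ((R ⧸ (maximalIdeal S).map (algebraMap S R)) ≃ₐ[S ⧸ maximalIdeal S]
      ((S ⧸ maximalIdeal S) × (S ⧸ maximalIdeal S))) := by
  obtain ⟨-, hfin', hunr, hrk, hred⟩ := fibre_facts hq
  haveI := hfin'
  haveI := hunr
  haveI := hred
  set k := S ⧸ maximalIdeal S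
  set A := R ⧸ (maximalIdeal S).map (algebraMap S R)
  haveI : Nontrivial A := Module.nontrivial_of_finrank_eq_succ (n := 1) hrk
  by_cases hF : IsField A
  · refine Or.inl ⟨hF, hrk, ?_⟩
    letI := hF.toField
    exact Algebra.FormallyUnramified.isSeparable _ _
  refine Or.inr ?_
  obtain ⟨x, hx0, hxu⟩ : ∃ x : A, x ≠ 0 ∧ ¬ IsUnit x := by
    by_contra hc
    push Not at hc
    exact hF ⟨exists_pair_ne A, mul_comm, fun ha => isUnit_iff_exists_inv.mp (hc _ ha)⟩
  have hind : LinearIndependent k ![(1 : A), x] := by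
    refine LinearIndependent.pair_iff.mpr fun a b hab => ?_
    by_cases hb : b = 0
    · refine ⟨?_, hb⟩
      rw [hb, zero_smul, add_zero, ← Algebra.algebraMap_eq_smul_one] at hab
      exact (algebraMap k A).injective (hab.trans (map_zero _).symm)
    · exfalso
      rw [← Algebra.algebraMap_eq_smul_one, Algebra.smul_def] at hab
      have hxe : x = algebraMap k A (-(b⁻¹ * a)) := by
        have : algebraMap k A b⁻¹ * algebraMap k A b = 1 := by rw [← map_mul, inv_mul_cancel₀ hb, map_one]
        rw [map_neg, map_mul]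
        linear_combination (algebraMap k A b⁻¹) * hab - x * this
      by_cases ha : -(b⁻¹ * a) = 0
      · exact hx0 (by rw [hxe, ha, map_zero])
      · exact hxu (hxe ▸ (Ne.isUnit ha).map (algebraMap k A))
  let bb := basisOfLinearIndependentOfCardEqFinrank hind (by rw [hrk]; rfl)
  obtain ⟨c, hc⟩ : ∃ c : Fin 2 → k, x * x = c 0 • (1 : A) + c 1 • x := ⟨bb.repr (x * x), by
    conv_lhs => rw [← bb.sum_repr (x * x)]
    simp [bb, Fin.sum_univ_two]⟩
  rw [Algebra.smul_def, mul_one, Algebra.smul_def] at hc
  have hc0 : c 0 = 0 := by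
    by_contra h0
    exact hxu (isUnit_of_mul_isUnit_left (y := x - algebraMap k A (c 1)) (by
      rw [mul_sub, hc, mul_comm x, add_sub_cancel_right]
      exact (Ne.isUnit h0).map _))
  rw [hc0, map_zero, zero_add] at hc
  have hc1 : c 1 ≠ 0 := fun h1 => hx0 (IsReduced.eq_zero x ⟨2, by rw [pow_two, hc, h1, map_zero, zero_mul]⟩)
  obtain ⟨e, he⟩ : ∃ e, e = algebraMap k A (c 1)⁻¹ * x := ⟨_, rfl⟩
  have hinv : algebraMap k A (c 1)⁻¹ * algebraMap k A (c 1) = 1 := by rw [← map_mul, inv_mul_cancel₀ hc1, map_one]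
  have hee : e * e = e := by
    rw [he]
    linear_combination (algebraMap k A (c 1)⁻¹) * (algebraMap k A (c 1)⁻¹) * hc + algebraMap k A (c 1)⁻¹ * x * hinv
  have he0 : e ≠ 0 := fun h0 => hx0 (by
    rw [he] at h0
    linear_combination algebraMap k A (c 1) * h0 - x * hinv)
  have he1 : (1 : A) - e ≠ 0 := fun h1 => hxu (by
    rw [sub_eq_zero, he] at h1
    exact IsUnit.of_mul_eq_one (algebraMap k A (c 1)⁻¹) (by rw [mul_comm]; exact h1.symm))
  let φ : k × k →ₐ[k] A :=
    { toFun := fun p => algebraMap k A p.1 * e + algebraMap k A p.2 * (1 - e)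
      map_one' := by simp
      map_mul' := fun p q => by
        simp only [Prod.fst_mul, Prod.snd_mul, map_mul]
        linear_combination (algebraMap k A p.1 * algebraMap k A q.1 + algebraMap k A p.2 * algebraMap k A q.2
          - algebraMap k A p.1 * algebraMap k A q.2 - algebraMap k A p.2 * algebraMap k A q.1) * (-1 : A) * hee
      map_zero' := by simp
      map_add' := fun p q => by simp only [Prod.fst_add, Prod.snd_add, map_add]; ring
      commutes' := fun c => by
        simp only [Prod.algebraMap_apply, Algebra.algebraMap_self_apply]; ring }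
  have hinj : Function.Injective φ := (injective_iff_map_eq_zero φ).mpr fun p hp => by
    change algebraMap k A p.1 * e + algebraMap k A p.2 * (1 - e) = 0 at hp
    refine Prod.ext (by_contra fun h1 => he0 ?_) (by_contra fun h2 => he1 ?_)
    · refine ((Ne.isUnit h1).map (algebraMap k A)).mul_right_eq_zero.mp ?_
      linear_combination e * hp + (algebraMap k A p.2 - algebraMap k A p.1) * hee
    · refine ((Ne.isUnit h2).map (algebraMap k A)).mul_right_eq_zero.mp ?_
      linear_combination (1 - e) * hp + (algebraMap k A p.1 - algebraMap k A p.2) * hee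
  have hbij : Function.Bijective φ := ⟨hinj,
    (LinearMap.injective_iff_surjective_of_finrank_eq_finrank (f := φ.toLinearMap)
      (by rw [hrk, Module.finrank_prod, Module.finrank_self])).mp hinj⟩
  exact ⟨(AlgEquiv.ofBijective φ hbij).symm⟩

end Groth.Agent.RInvLib
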