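import Mathlib.RingTheory.Localization.Away.Basic
import Mathlib.RingTheory.Localization.AtPrime.Basic
import Mathlib.RingTheory.Localization.Ideal
import Mathlib.RingTheory.Localization.Integer
import Mathlib.RingTheory.TensorProduct.Maps
import Mathlib.LinearAlgebra.Matrix.NonsingularInverse
import Mathlib.Algebra.MvPolynomial.Eval
import Mathlib.RingTheory.MvPolynomial.Basic
import Mathlib.Tactic.LinearCombination
import Mathlib.Tactic.Convert

/-! Spreading out congruences of matrices from a localisation to a principal localisation. -/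

namespace Groth.Agent.RInvLib

open Matrix
open scoped TensorProduct

universe u v w z

/-- Adjoining square roots. -/
abbrev SqrtRing (D : Type u) [CommRing D] {l : ℕ} (s : Fin l → D) :=
  MvPolynomial (Fin l) D ⧸ Ideal.span (Set.range fun k : Fin l => MvPolynomial.X k ^ 2 - MvPolynomial.C (s k))

variable {B : Type u} [CommRing B]

section SqrtLift

variable {D : Type v} [CommRing D] [Algebra B D] {l : ℕ} {s : Fin l → D}
  {T : Type w} [CommRing T] [Algebra B T]

/-- Maps out of a ring with square roots adjoined. -/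
noncomputable def sqrtLift (φ : D →ₐ[B] T) (r : Fin l → T) (hr : ∀ k, r k ^ 2 = φ (s k)) :
    SqrtRing D s →ₐ[B] T :=
  Ideal.Quotient.liftₐ _ (MvPolynomial.aevalTower φ r) (by
    intro a ha
    induction ha using Submodule.span_induction with
    | mem x hx => obtain ⟨k, rfl⟩ := hx; simp [hr]
    | zero => simp
    | add x y _ _ hx hy => simp [hx, hy]
    | smul c x _ hx => simp [hx])

/-- The adjoined square roots. -/
noncomputable def sqrtRoot (D : Type v) [CommRing D] {l : ℕ} (s : Fin l → D) (k : Fin l) : SqrtRing D s :=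
  Ideal.Quotient.mk _ (MvPolynomial.X k)

theorem sqrtRoot_sq (k : Fin l) : sqrtRoot D s k ^ 2 = algebraMap D (SqrtRing D s) (s k) := by
  rw [sqrtRoot, ← map_pow]
  exact Ideal.Quotient.eq.mpr (Ideal.subset_span ⟨k, rfl⟩)

end SqrtLift

/-- Extension of a map to a localisation at a submonoid of the base. -/
noncomputable def locLift (M : Submonoid B) (R : Type v) [CommRing R] [Algebra B R]
    (S : Type z) [CommRing S] [Algebra B S] [Algebra R S] [IsScalarTower B R S]
    [IsLocalization (Algebra.algebraMapSubmonoid R M) S]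
    {T : Type w} [CommRing T] [Algebra B T] (g : R →ₐ[B] T) (hT : ∀ m ∈ M, IsUnit (algebraMap B T m)) :
    S →ₐ[B] T :=
  IsLocalization.liftAlgHom (M := Algebra.algebraMapSubmonoid R M) (f := g) (fun y => by
    obtain ⟨m, hm, hy⟩ := y.2
    rw [← hy]
    exact (AlgHom.commutes g m) ▸ hT m hm)

theorem locLift_algebraMap (M : Submonoid B) {R : Type v} [CommRing R] [Algebra B R]
    {S : Type z} [CommRing S] [Algebra B S] [Algebra R S] [IsScalarTower B R S]
    [IsLocalization (Algebra.algebraMapSubmonoid R M) S]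
    {T : Type w} [CommRing T] [Algebra B T] (g : R →ₐ[B] T) (hT : ∀ m ∈ M, IsUnit (algebraMap B T m)) (x : R) :
    locLift M R S g hT (algebraMap R S x) = g x := by
  rw [locLift, IsLocalization.liftAlgHom_apply, IsLocalization.lift_eq]; rfl

section Spread

variable (M : Submonoid B) {R : Type v} [CommRing R] [Algebra B R]
  {S : Type z} [CommRing S] [Algebra B S] [Algebra R S] [IsScalarTower B R S]
  [IsLocalization (Algebra.algebraMapSubmonoid R M) S] {ι : Type*} [Fintype ι] [DecidableEq ι]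

include M R in
theorem isUnit_algebraMap_loc {m : B} (hm : m ∈ M) : IsUnit (algebraMap B S m) := by
  rw [IsScalarTower.algebraMap_apply B R S]
  exact IsLocalization.map_units S (⟨_, m, hm, rfl⟩ : Algebra.algebraMapSubmonoid R M)

include M in
theorem exists_num (v : Matrix ι ι S) :
    ∃ m ∈ M, ∃ v' : Matrix ι ι R, v'.map (algebraMap R S) = m • v := by
  obtain ⟨⟨_, m, hm, rfl⟩, hb⟩ :=
    IsLocalization.exist_integer_multiples_of_finite (Algebra.algebraMapSubmonoid R M) fun p : ι × ι => v p.1 p.2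
  refine ⟨m, hm, Matrix.of fun i j => (hb (i, j)).choose, ?_⟩
  ext i j
  simpa [Algebra.smul_def, ← IsScalarTower.algebraMap_apply] using (hb (i, j)).choose_spec

include M in
theorem exists_smul_eq {X Y : Matrix ι ι R} (h : X.map (algebraMap R S) = Y.map (algebraMap R S)) :
    ∃ m ∈ M, m • X = m • Y := by
  have h' : ∀ p : ι × ι, ∃ m ∈ M, m • X p.1 p.2 = m • Y p.1 p.2 := fun p => by
    obtain ⟨⟨_, m, hm, rfl⟩, hc⟩ := (IsLocalization.eq_iff_exists (Algebra.algebraMapSubmonoid R M) S).mp
      (congrFun (congrFun h p.1) p.2)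
    exact ⟨m, hm, by simpa [Algebra.smul_def] using hc⟩
  choose m hm hm' using h'
  refine ⟨∏ p, m p, M.prod_mem fun p _ => hm p, ?_⟩
  ext i j
  obtain ⟨c, hc⟩ : m (i, j) ∣ ∏ p, m p := Finset.dvd_prod_of_mem _ (Finset.mem_univ _)
  rw [Matrix.smul_apply, Matrix.smul_apply, hc, mul_comm, mul_smul, mul_smul, hm' (i, j)]

include M in
/-- A congruence over the localisation at `M` is defined after inverting one element of `M`. -/
theorem spread_congr (l : R →ₐ[B] R) (l' : S →ₐ[B] S) (hl : ∀ x, l' (algebraMap R S x) = algebraMap R S (l x))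
    (h h' : Matrix ι ι R) {v : Matrix ι ι S} (hv : IsUnit v)
    (heq : (v.map l').transpose * h.map (algebraMap R S) * v = h'.map (algebraMap R S)) :
    ∃ b ∈ M, ∀ (T : Type w) [CommRing T] [Algebra B T] (g : R →ₐ[B] T) (lT : T →ₐ[B] T),
      (∀ x, lT (g x) = g (l x)) → IsUnit (algebraMap B T b) →
      ∃ x : Matrix ι ι T, IsUnit x ∧ (x.map lT).transpose * h.map g * x = h'.map g := by
  obtain ⟨u, hu⟩ := isUnit_iff_exists_inv.mp hv
  obtain ⟨m, hm, v', hv'⟩ := exists_num M (R := R) v
  obtain ⟨k, hk, u', hu'⟩ := exists_num M (R := R) u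
  let φ : R →ₐ[B] S := IsScalarTower.toAlgHom B R S
  have hφ : ⇑φ = ⇑(algebraMap R S) := rfl
  have e1 : ((v'.map l).transpose * h * v').map (algebraMap R S) = ((m * m) • h').map (algebraMap R S) := by
    have h1 : (v'.map l).map (algebraMap R S) = m • v.map l' := by
      rw [← Matrix.map_smul l' m (fun a => map_smul l' m a), ← hv']
      ext i j; simp [hl]
    rw [← hφ, Matrix.map_mul, Matrix.map_mul, Matrix.transpose_map, hφ, h1, hv', Matrix.transpose_smul,
      Matrix.smul_mul, Matrix.mul_smul, Matrix.smul_mul, smul_smul, heq, ← hφ,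
      Matrix.map_smul φ (m * m) (fun a => map_smul φ (m * m) a)]
  have e2 : (v' * u').map (algebraMap R S) = ((m * k) • (1 : Matrix ι ι R)).map (algebraMap R S) := by
    rw [← hφ, Matrix.map_mul, Matrix.map_smul φ (m * k) (fun a => map_smul φ (m * k) a), hφ, hv', hu',
      Matrix.smul_mul, Matrix.mul_smul, smul_smul, hu, Matrix.map_one _ (map_zero _) (map_one _)]
  obtain ⟨c, hc, hc'⟩ := exists_smul_eq M e1
  obtain ⟨d, hd, hd'⟩ := exists_smul_eq M e2
  refine ⟨m * k * c * d, M.mul_mem (M.mul_mem (M.mul_mem hm hk) hc) hd, fun T _ _ g lT hg hb => ?_⟩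
  simp only [map_mul, IsUnit.mul_iff] at hb
  obtain ⟨⟨⟨hmu, hku⟩, hcu⟩, hdu⟩ := hb
  obtain ⟨μ, hμ⟩ := isUnit_iff_exists_inv.mp hmu
  obtain ⟨κ, hκ⟩ := isUnit_iff_exists_inv.mp hku
  have hlμ : lT μ = μ := by
    calc lT μ = (algebraMap B T m * μ) * lT μ := by rw [hμ, one_mul]
      _ = (lT (algebraMap B T m) * lT μ) * μ := by rw [AlgHom.commutes]; ring
      _ = μ := by rw [← map_mul, hμ, map_one, one_mul]
  have cancel : ∀ {a : B}, IsUnit (algebraMap B T a) → ∀ {X Y : Matrix ι ι T}, a • X = a • Y → X = Y :=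
    fun {a} ha {X Y} h => by
      ext i j
      exact ha.mul_left_cancel (by simpa [Algebra.smul_def] using congrFun (congrFun h i) j)
  have f1 : ((v'.map g).map lT).transpose * h.map g * v'.map g = (m * m) • h'.map g := by
    refine cancel hcu ?_
    have := congrArg (fun X : Matrix ι ι R => X.map g) hc'
    simp only [Matrix.map_smul g _ (fun a => map_smul g _ a), Matrix.map_mul, Matrix.transpose_map] at this
    rwa [show (v'.map g).map lT = (v'.map l).map g by ext i j; simp [hg]]
  have f2 : v'.map g * u'.map g = (m * k) • (1 : Matrix ι ι T) := by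
    refine cancel hdu ?_
    have := congrArg (fun X : Matrix ι ι R => X.map g) hd'
    simpa only [Matrix.map_smul g _ (fun a => map_smul g _ a), Matrix.map_mul,
      Matrix.map_one g (map_zero g) (map_one g)] using this
  refine ⟨μ • v'.map g, IsUnit.of_mul_eq_one (κ • u'.map g) ?_, ?_⟩
  · rw [Matrix.smul_mul, Matrix.mul_smul, f2, ← algebraMap_smul T (m * k), smul_smul, smul_smul, map_mul]
    convert one_smul T (1 : Matrix ι ι T) using 2
    linear_combination κ * algebraMap B T k * hμ + hκ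
  · rw [Matrix.map_smul' (f := lT) μ (v'.map g) (fun a b => map_mul lT a b), hlμ, Matrix.transpose_smul,
      Matrix.smul_mul, Matrix.mul_smul, Matrix.smul_mul, f1, ← algebraMap_smul T (m * m), smul_smul, smul_smul, map_mul]
    convert one_smul T (h'.map g) using 2
    linear_combination (μ * algebraMap B T m + 1) * hμ

end Spread

section Tensor

variable (M : Submonoid B) {A : Type v} [CommRing A] [Algebra B A] (lam : A ≃ₐ[B] A) {n : ℕ}
  {C₀ : Type u} [CommRing C₀] [Algebra B C₀] {LC : Type z} [CommRing LC] [Algebra B LC] [Algebra C₀ LC]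
  [IsScalarTower B C₀ LC] [IsLocalization (Algebra.algebraMapSubmonoid C₀ M) LC]
  {C : Type u} [CommRing C] [Algebra B C]

theorem spread_tensor_aux (L₁ : Type w) [CommRing L₁] [Algebra B L₁] [Algebra (C₀ ⊗[B] A) L₁]
    [IsScalarTower B (C₀ ⊗[B] A) L₁] [IsLocalization (Algebra.algebraMapSubmonoid (C₀ ⊗[B] A) M) L₁]
    (φ : C →ₐ[B] LC) (h h' : Matrix (Fin n) (Fin n) A)
    {v : Matrix (Fin n) (Fin n) (C ⊗[B] A)} (hv : IsUnit v)
    (hveq : (v.map (Algebra.TensorProduct.congr (AlgEquiv.refl : C ≃ₐ[C] C) lam)).transpose *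
      h.map (Algebra.TensorProduct.includeRight : A →ₐ[B] C ⊗[B] A) * v =
        h'.map (Algebra.TensorProduct.includeRight : A →ₐ[B] C ⊗[B] A)) :
    ∃ b ∈ M, ∀ (T : Type u) [CommRing T] [Algebra B T] (_ : C₀ →ₐ[B] T),
      IsUnit (algebraMap B T b) → ∃ v : Matrix (Fin n) (Fin n) (T ⊗[B] A), IsUnit v ∧
        (v.map (Algebra.TensorProduct.congr (AlgEquiv.refl : T ≃ₐ[T] T) lam)).transpose *
          h.map (Algebra.TensorProduct.includeRight : A →ₐ[B] T ⊗[B] A) * v =
            h'.map (Algebra.TensorProduct.includeRight : A →ₐ[B] T ⊗[B] A) := by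
  have hL₁ : ∀ m ∈ M, IsUnit (algebraMap B L₁ m) := fun m hm => isUnit_algebraMap_loc M (R := C₀ ⊗[B] A) (S := L₁) hm
  let lR : (C₀ ⊗[B] A) →ₐ[B] (C₀ ⊗[B] A) := Algebra.TensorProduct.map (AlgHom.id B C₀) lam.toAlgHom
  let ι₁ : (C₀ ⊗[B] A) →ₐ[B] L₁ := IsScalarTower.toAlgHom B (C₀ ⊗[B] A) L₁
  let l₁ : L₁ →ₐ[B] L₁ := locLift M (C₀ ⊗[B] A) L₁ (ι₁.comp lR) hL₁
  let j : LC →ₐ[B] L₁ := locLift M C₀ LC (ι₁.comp (Algebra.TensorProduct.includeLeft : C₀ →ₐ[B] (C₀ ⊗[B] A))) hL₁
  have hlι : ∀ x, l₁ (ι₁ x) = ι₁ (lR x) := fun x => locLift_algebraMap M (ι₁.comp lR) hL₁ x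
  have hlj : l₁.comp j = j := by
    refine AlgHom.coe_ringHom_injective (IsLocalization.ringHom_ext (Algebra.algebraMapSubmonoid C₀ M) ?_)
    ext c
    show l₁ (j (algebraMap C₀ LC c)) = j (algebraMap C₀ LC c)
    rw [locLift_algebraMap, AlgHom.comp_apply, hlι, Algebra.TensorProduct.includeLeft_apply]
    simp [lR]
  let Φ : C ⊗[B] A →ₐ[B] L₁ :=
    Algebra.TensorProduct.lift (j.comp φ) (ι₁.comp Algebra.TensorProduct.includeRight) fun _ _ => Commute.all _ _
  have hΦr : ∀ y, Φ (Algebra.TensorProduct.includeRight y) = ι₁ ((1 : C₀) ⊗ₜ y) := fun y => by simp [Φ]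
  have hΦ : ∀ z, l₁ (Φ z) = Φ (Algebra.TensorProduct.congr (AlgEquiv.refl : C ≃ₐ[C] C) lam z) := fun z => by
    induction z using TensorProduct.induction_on with
    | zero => simp
    | add x y hx hy => simp only [map_add, hx, hy]
    | tmul c y =>
      have e1 : l₁ (j (φ c)) = j (φ c) := AlgHom.congr_fun hlj (φ c)
      simp only [Φ, Algebra.TensorProduct.lift_tmul, AlgHom.comp_apply, Algebra.TensorProduct.congr_apply,
        Algebra.TensorProduct.map_tmul, map_mul, e1, hlι, Algebra.TensorProduct.includeRight_apply, lR]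
      rfl
  obtain ⟨b, hb, hspec⟩ := spread_congr M lR l₁ hlι
    (h.map (Algebra.TensorProduct.includeRight : A →ₐ[B] (C₀ ⊗[B] A)))
    (h'.map (Algebra.TensorProduct.includeRight : A →ₐ[B] (C₀ ⊗[B] A))) (hv.map Φ.mapMatrix) (by
      have e := congrArg (fun X : Matrix (Fin n) (Fin n) (C ⊗[B] A) => X.map Φ) hveq
      simp only [Matrix.map_mul, Matrix.transpose_map, Matrix.map_map] at e
      simp only [AlgHom.mapMatrix_apply, Matrix.map_map]
      convert e using 1
      · congr 2
        · congr 1; congr 1; funext z; exact hΦ z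
        · congr 1; funext x; exact (hΦr x).symm
      · congr 1; funext x; exact (hΦr x).symm)
  refine ⟨b, hb, fun T _ _ ψ hT => ?_⟩
  let g : (C₀ ⊗[B] A) →ₐ[B] T ⊗[B] A := Algebra.TensorProduct.map ψ (AlgHom.id B A)
  let lT : T ⊗[B] A →ₐ[B] T ⊗[B] A := Algebra.TensorProduct.map (AlgHom.id B T) lam.toAlgHom
  obtain ⟨x, hx, hxe⟩ := hspec (T ⊗[B] A) g lT
    (fun z => by
      induction z using TensorProduct.induction_on with
      | zero => simp
      | add x y hx hy => simp only [map_add, hx, hy]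
      | tmul c y => simp [g, lR, lT])
    (by rw [IsScalarTower.algebraMap_apply B T (T ⊗[B] A)]; exact hT.map _)
  refine ⟨x, hx, ?_⟩
  have q1 : ⇑(Algebra.TensorProduct.congr (AlgEquiv.refl : T ≃ₐ[T] T) lam) = ⇑lT := funext fun z => by
    induction z using TensorProduct.induction_on with
    | zero => simp
    | add x y hx hy => simp only [map_add, hx, hy]
    | tmul c y => simp [lT]
  have q2 : ⇑g ∘ ⇑(Algebra.TensorProduct.includeRight : A →ₐ[B] C₀ ⊗[B] A) =
      ⇑(Algebra.TensorProduct.includeRight : A →ₐ[B] T ⊗[B] A) := funext fun y => by simp [g]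
  simp only [Matrix.map_map, q2] at hxe
  rw [q1]
  exact hxe

theorem spread_tensor (φ : C →ₐ[B] LC) (h h' : Matrix (Fin n) (Fin n) A)
    {v : Matrix (Fin n) (Fin n) (C ⊗[B] A)} (hv : IsUnit v)
    (hveq : (v.map (Algebra.TensorProduct.congr (AlgEquiv.refl : C ≃ₐ[C] C) lam)).transpose *
      h.map (Algebra.TensorProduct.includeRight : A →ₐ[B] C ⊗[B] A) * v =
        h'.map (Algebra.TensorProduct.includeRight : A →ₐ[B] C ⊗[B] A)) :
    ∃ b ∈ M, ∀ (T : Type u) [CommRing T] [Algebra B T] (_ : C₀ →ₐ[B] T),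
      IsUnit (algebraMap B T b) → ∃ v : Matrix (Fin n) (Fin n) (T ⊗[B] A), IsUnit v ∧
        (v.map (Algebra.TensorProduct.congr (AlgEquiv.refl : T ≃ₐ[T] T) lam)).transpose *
          h.map (Algebra.TensorProduct.includeRight : A →ₐ[B] T ⊗[B] A) * v =
            h'.map (Algebra.TensorProduct.includeRight : A →ₐ[B] T ⊗[B] A) :=
  spread_tensor_aux M lam (Localization (Algebra.algebraMapSubmonoid (C₀ ⊗[B] A) M)) φ h h' hv hveq

end Tensor

end Groth.Agent.RInvLib
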